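import Groth.Agent.S5014
import Groth.Agent.S0501
import Mathlib.RingTheory.Etale.Kaehler
import Mathlib.RingTheory.Etale.Locus
import Mathlib.RingTheory.LocalRing.Module
import Mathlib.RingTheory.LocalRing.ResidueField.Ideal

/-!
# Etale coordinates at a rational point from a basis of the cotangent space
-/

set_option autoImplicit false
set_option linter.unusedSectionVars false
set_option linter.style.haveILetI false
universe u

namespace K50.EtBasis

open TensorProduct IsLocalRing

section Conv

variable (A S : Type u) [CommRing A] [CommRing S] [Algebra A S]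
  (K : Type u) [Field K] [Algebra S K] (q : Ideal S) [q.IsPrime]

/-- The map from `K` to the residue field of `S` at the kernel of `S → K`. -/
noncomputable def toRes (hs : Function.Surjective (algebraMap S K))
    (hq : RingHom.ker (algebraMap S K) = q) : K →+* q.ResidueField :=
  (algebraMap S K).liftOfSurjective hs ⟨algebraMap S _, fun x hx => by
    rw [RingHom.mem_ker]
    rw [hq] at hx
    exact Ideal.algebraMap_residueField_eq_zero.mpr hx⟩

theorem toRes_algebraMap (hs : Function.Surjective (algebraMap S K))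
    (hq : RingHom.ker (algebraMap S K) = q) (s : S) :
    toRes S K q hs hq (algebraMap S K s) = algebraMap S _ s :=
  (algebraMap S K).liftOfRightInverse_comp_apply _ _ _ s

theorem basis_residueField [Algebra.Smooth A S] {n : ℕ} (y : Fin n → S)
    (hs : Function.Surjective (algebraMap S K)) (hq : RingHom.ker (algebraMap S K) = q)
    (b : Module.Basis (Fin n) K (K ⊗[S] Ω[S⁄A]))
    (hb : ∀ i, b i = 1 ⊗ₜ KaehlerDifferential.D A S (y i)) :
    ∃ b' : Module.Basis (Fin n) q.ResidueField
      (q.ResidueField ⊗[Localization.AtPrime q] Ω[Localization.AtPrime q⁄A]),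
      ∀ i, b' i = 1 ⊗ₜ KaehlerDifferential.D A _
        (algebraMap S (Localization.AtPrime q) (y i)) := by
  let Sq := Localization.AtPrime q
  let k' := q.ResidueField
  letI : Algebra K k' := (toRes S K q hs hq).toAlgebra
  haveI : IsScalarTower S K k' := IsScalarTower.of_algebraMap_eq fun s =>
    (toRes_algebraMap S K q hs hq s).symm
  haveI : Algebra.FormallyEtale S Sq :=
    Algebra.FormallyEtale.of_isLocalization q.primeCompl
  let e1 : k' ⊗[K] (K ⊗[S] Ω[S⁄A]) ≃ₗ[k'] k' ⊗[S] Ω[S⁄A] :=
    AlgebraTensorModule.cancelBaseChange S K k' k' Ω[S⁄A]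
  let e2 : k' ⊗[Sq] (Sq ⊗[S] Ω[S⁄A]) ≃ₗ[k'] k' ⊗[S] Ω[S⁄A] :=
    AlgebraTensorModule.cancelBaseChange S Sq k' k' Ω[S⁄A]
  let e3 : k' ⊗[Sq] (Sq ⊗[S] Ω[S⁄A]) ≃ₗ[k'] k' ⊗[Sq] Ω[Sq⁄A] :=
    LinearEquiv.baseChange Sq k' _ _ (KaehlerDifferential.tensorKaehlerEquivOfFormallyEtale A S Sq)
  refine ⟨(b.baseChange k').map (e1.trans (e2.symm.trans e3)), fun i => ?_⟩
  rw [Module.Basis.map_apply, Module.Basis.baseChange_apply, hb]
  show e3 (e2.symm (e1 (1 ⊗ₜ (1 ⊗ₜ _)))) = _
  have h1 : e1 (1 ⊗ₜ (1 ⊗ₜ KaehlerDifferential.D A S (y i))) =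
      (1 : k') ⊗ₜ KaehlerDifferential.D A S (y i) := by
    simp only [e1, AlgebraTensorModule.cancelBaseChange_tmul, one_smul]
  rw [h1]
  have h2 : e2.symm ((1 : k') ⊗ₜ KaehlerDifferential.D A S (y i)) =
      (1 : k') ⊗ₜ ((1 : Sq) ⊗ₜ KaehlerDifferential.D A S (y i)) :=
    AlgebraTensorModule.cancelBaseChange_symm_tmul ..
  rw [h2]
  show (1 : k') ⊗ₜ[Sq] (KaehlerDifferential.tensorKaehlerEquivOfFormallyEtale A S Sq)
    ((1 : Sq) ⊗ₜ KaehlerDifferential.D A S (y i)) = _
  rw [← KaehlerDifferential.tensorKaehlerEquivOfFormallyEtale_symm_D_algebraMap A S Sq,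
    LinearEquiv.apply_symm_apply]

theorem isEtaleAt [Algebra.Smooth A S] {n : ℕ} (y : Fin n → S)
    [Algebra (MvPolynomial (Fin n) A) S] [IsScalarTower A (MvPolynomial (Fin n) A) S]
    (hy : ∀ i, algebraMap (MvPolynomial (Fin n) A) S (MvPolynomial.X i) = y i)
    (hs : Function.Surjective (algebraMap S K)) (hq : RingHom.ker (algebraMap S K) = q)
    (b : Module.Basis (Fin n) K (K ⊗[S] Ω[S⁄A]))
    (hb : ∀ i, b i = 1 ⊗ₜ KaehlerDifferential.D A S (y i)) :
    Algebra.IsEtaleAt (MvPolynomial (Fin n) A) q := by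
  obtain ⟨b', hb'⟩ := basis_residueField A S K q y hs hq b hb
  rw [Groth.Agent.S5014.result A S n]
  simp only [hy]
  haveI : Algebra.FormallyEtale S (Localization.AtPrime q) :=
    Algebra.FormallyEtale.of_isLocalization q.primeCompl
  haveI : Algebra.FormallySmooth A (Localization.AtPrime q) :=
    Algebra.FormallySmooth.comp A S _
  haveI : Module.Finite S Ω[S⁄A] := inferInstance
  haveI : Module.Finite (Localization.AtPrime q) Ω[Localization.AtPrime q⁄A] :=
    Module.Finite.equiv (KaehlerDifferential.tensorKaehlerEquivOfFormallyEtale A S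
      (Localization.AtPrime q))
  refine ⟨?_, ?_⟩
  · refine Module.IsLocalRing.linearIndependent_of_flat _ ?_
    have h : (⇑((TensorProduct.mk (Localization.AtPrime q) q.ResidueField
        Ω[Localization.AtPrime q⁄A]) 1) ∘ fun i => KaehlerDifferential.D A (Localization.AtPrime q)
          (algebraMap S (Localization.AtPrime q) (y i))) = b' := by
      ext i
      exact (hb' i).symm
    exact h ▸ b'.linearIndependent
  · exact IsLocalRing.span_eq_top_of_tmul_eq_basis _ b' fun i => (hb' i).symm

end Conv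

section Sec

variable (A : Type u) [CommRing A] [HenselianLocalRing A] (S : Type u) [CommRing S] [Algebra A S]
  [Algebra.Smooth A S] [Algebra S (ResidueField A)] [IsScalarTower A S (ResidueField A)]

theorem surjective_algebraMap : Function.Surjective (algebraMap S (ResidueField A)) := by
  intro x
  obtain ⟨a, rfl⟩ := residue_surjective x
  exact ⟨algebraMap A S a, (IsScalarTower.algebraMap_apply A S (ResidueField A) a).symm⟩

theorem exists_section {n : ℕ} (y : Fin n → S)
    (hy : ∀ i, algebraMap S (ResidueField A) (y i) = 0)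
    (b : Module.Basis (Fin n) (ResidueField A) (ResidueField A ⊗[S] Ω[S⁄A]))
    (hb : ∀ i, b i = 1 ⊗ₜ KaehlerDifferential.D A S (y i)) :
    ∃ s : S →ₐ[A] A, (∀ i, s (y i) = 0) ∧
      (∀ x, residue A (s x) = algebraMap S (ResidueField A) x) ∧
      ∀ s' : S →ₐ[A] A, (∀ i, s' (y i) = 0) →
        (∀ x, residue A (s' x) = algebraMap S (ResidueField A) x) → s' = s := by
  let R₀ := MvPolynomial (Fin n) A
  letI : Algebra R₀ S := (MvPolynomial.aeval y).toRingHom.toAlgebra
  haveI : IsScalarTower A R₀ S := IsScalarTower.of_algebraMap_eq fun a =>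
    ((MvPolynomial.aeval y).commutes a).symm
  have hyX : ∀ i, algebraMap R₀ S (MvPolynomial.X i) = y i := fun i => MvPolynomial.aeval_X y i
  set ψ := algebraMap S (ResidueField A) with hψ
  haveI : (RingHom.ker ψ).IsPrime := RingHom.ker_isPrime _
  haveI hE := isEtaleAt A S (ResidueField A) (RingHom.ker ψ) y hyX (surjective_algebraMap A S) rfl b hb
  haveI : Algebra.FinitePresentation R₀ S :=
    Algebra.FinitePresentation.of_restrict_scalars_finitePresentation A R₀ S
  obtain ⟨f, hf, hfe⟩ := Algebra.exists_etale_of_isEtaleAt (R := R₀) (RingHom.ker ψ)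
  let Sf := Localization.Away f
  have hfu : IsUnit (ψ f) := isUnit_iff_ne_zero.mpr fun h => hf (RingHom.mem_ker.mpr h)
  let ψf : Sf →+* ResidueField A := IsLocalization.Away.lift f hfu
  have hψf : ∀ x, ψf (algebraMap S Sf x) = ψ x := fun x => IsLocalization.Away.lift_eq f hfu x
  haveI : (RingHom.ker ψf).IsPrime := RingHom.ker_isPrime _
  letI : Algebra R₀ A := (MvPolynomial.aeval (0 : Fin n → A)).toRingHom.toAlgebra
  have hRA : ∀ p : R₀, algebraMap R₀ A p = MvPolynomial.aeval (0 : Fin n → A) p := fun _ => rfl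
  let τ : (RingHom.ker ψf).ResidueField →+* ResidueField A :=
    Ideal.ResidueField.lift (RingHom.ker ψf) ψf le_rfl fun x hx =>
      isUnit_iff_ne_zero.mpr fun h => hx (RingHom.mem_ker.mpr h)
  have hτ : ∀ x, τ (algebraMap Sf _ x) = ψf x := fun x => Ideal.ResidueField.lift_algebraMap ..
  have hτ' : τ.comp (algebraMap R₀ (RingHom.ker ψf).ResidueField) =
      (residue A).comp (algebraMap R₀ A) := by
    have hh : ∀ p : R₀, τ (algebraMap R₀ (RingHom.ker ψf).ResidueField p) =
        ψ (algebraMap R₀ S p) := by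
      intro p
      rw [IsScalarTower.algebraMap_apply R₀ Sf (RingHom.ker ψf).ResidueField, hτ,
        IsScalarTower.algebraMap_apply R₀ S Sf, hψf]
    apply MvPolynomial.ringHom_ext
    · intro a
      rw [RingHom.comp_apply, RingHom.comp_apply, hh, hRA, MvPolynomial.aeval_C]
      have h1 : algebraMap R₀ S (MvPolynomial.C a) = algebraMap A S a :=
        (IsScalarTower.algebraMap_apply A R₀ S a).symm
      rw [h1, hψ, ← IsScalarTower.algebraMap_apply A S (ResidueField A)]
      rfl
    · intro i
      rw [RingHom.comp_apply, RingHom.comp_apply, hh, hRA, MvPolynomial.aeval_X, hyX, hy]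
      simp
  obtain ⟨F, ⟨hF1, hF2⟩, hF3⟩ := Groth.Agent.S0501.result R₀ A Sf (RingHom.ker ψf) τ hτ'
  refine ⟨AlgHom.mk (F.toRingHom.comp (algebraMap S Sf)) ?_, ?_, ?_, ?_⟩
  · intro a
    show F (algebraMap S Sf (algebraMap A S a)) = a
    rw [IsScalarTower.algebraMap_apply A R₀ S a, ← IsScalarTower.algebraMap_apply R₀ S Sf,
      F.commutes, hRA]
    exact MvPolynomial.aeval_C _ _
  · intro i
    show F (algebraMap S Sf (y i)) = 0
    rw [← hyX i, ← IsScalarTower.algebraMap_apply R₀ S Sf, F.commutes, hRA, MvPolynomial.aeval_X]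
    rfl
  · intro x
    show residue A (F (algebraMap S Sf x)) = _
    rw [hF2, hτ, hψf]
  · intro s' hs1 hs2
    have hsf : IsUnit (s' f) := by
      have h1 : IsUnit (residue A (s' f)) := by rw [hs2]; exact hfu
      exact (isUnit_map_iff (residue A) _).mp h1
    let F₀ : Sf →+* A := IsLocalization.Away.lift (g := s'.toRingHom) f hsf
    have hF₀ : ∀ x, F₀ (algebraMap S Sf x) = s' x := fun x => IsLocalization.Away.lift_eq f hsf x
    have hF₀' : ∀ p : R₀, s' (algebraMap R₀ S p) = algebraMap R₀ A p := by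
      have : s'.toRingHom.comp (algebraMap R₀ S) = algebraMap R₀ A := by
        apply MvPolynomial.ringHom_ext
        · intro a
          have h1 : algebraMap R₀ S (MvPolynomial.C a) = algebraMap A S a :=
            (IsScalarTower.algebraMap_apply A R₀ S a).symm
          rw [RingHom.comp_apply, h1, hRA, MvPolynomial.aeval_C]
          exact s'.commutes a
        · intro i
          rw [RingHom.comp_apply, hyX, hRA, MvPolynomial.aeval_X]
          exact hs1 i
      exact fun p => DFunLike.congr_fun this p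
    let F' : Sf →ₐ[R₀] A := AlgHom.mk F₀ fun p => by
      rw [IsScalarTower.algebraMap_apply R₀ S Sf]
      exact (hF₀ _).trans (hF₀' p)
    have hres : (residue A).comp F₀ = ψf := by
      refine IsLocalization.ringHom_ext (Submonoid.powers f) ?_
      ext x
      show residue A (F₀ (algebraMap S Sf x)) = ψf (algebraMap S Sf x)
      rw [hF₀, hs2, hψf]
    have hres' : ∀ x, residue A (F' x) = ψf x := fun x => DFunLike.congr_fun hres x
    have hEq : F' = F := by
      refine hF3 F' ⟨?_, fun a => ?_⟩
      · ext x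
        show F' x ∈ maximalIdeal A ↔ ψf x = 0
        rw [← hres', residue_eq_zero_iff]
      · rw [hres', hτ]
    ext x
    show s' x = F (algebraMap S Sf x)
    rw [← hEq]
    exact (hF₀ x).symm

end Sec

end K50.EtBasis
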