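import Groth.Agent.BSB.K50.FixHens
import Groth.Agent.BSB.K50.EtBasis

/-!
# Equivariant sections of smooth algebras over a henselian local ring (finite group of order
invertible in the residue field)
-/

set_option autoImplicit false
set_option linter.unusedSectionVars false
set_option linter.style.haveILetI false
universe u

namespace K50.EqSec

open TensorProduct IsLocalRing

section Cot

variable (A : Type u) [CommRing A] [IsLocalRing A] (S : Type u) [CommRing S] [Algebra A S]
  [Algebra S (ResidueField A)] [IsScalarTower A S (ResidueField A)]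

/-- The cotangent space at the rational point. -/
abbrev T := ResidueField A ⊗[S] Ω[S⁄A]

/-- The differential at the rational point. -/
noncomputable def δ (b : S) : T A S := 1 ⊗ₜ KaehlerDifferential.D A S b

theorem δ_add (b c : S) : δ A S (b + c) = δ A S b + δ A S c := by
  simp only [δ, map_add, tmul_add]

theorem δ_mul (b c : S) : δ A S (b * c) =
    algebraMap S (ResidueField A) b • δ A S c + algebraMap S (ResidueField A) c • δ A S b := by
  simp only [δ, Derivation.leibniz, tmul_add, TensorProduct.smul_tmul', smul_eq_mul, mul_one]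
  rw [← TensorProduct.smul_tmul, ← TensorProduct.smul_tmul, Algebra.smul_def, mul_one,
    Algebra.smul_def, mul_one]

theorem δ_algebraMap (a : A) : δ A S (algebraMap A S a) = 0 := by
  simp only [δ, Derivation.map_algebraMap, tmul_zero]

theorem δ_smul (a : A) (b : S) : δ A S (a • b) = residue A a • δ A S b := by
  rw [Algebra.smul_def, δ_mul, δ_algebraMap, smul_zero, add_zero,
    ← IsScalarTower.algebraMap_apply A S (ResidueField A)]
  rfl

theorem δ_sum {ι : Type*} (s : Finset ι) (f : ι → S) : δ A S (∑ i ∈ s, f i) = ∑ i ∈ s, δ A S (f i) :=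
  map_sum (AddMonoidHom.mk' (δ A S) (δ_add A S)) f s

theorem exists_δ (t : T A S) : ∃ y : S, algebraMap S (ResidueField A) y = 0 ∧ δ A S y = t := by
  induction t using TensorProduct.induction_on with
  | zero => exact ⟨0, map_zero _, by simp [δ]⟩
  | add x y hx hy =>
    obtain ⟨a, ha, rfl⟩ := hx
    obtain ⟨b, hb, rfl⟩ := hy
    exact ⟨a + b, by rw [map_add, ha, hb, add_zero], δ_add ..⟩
  | tmul k ω =>
    have hω : ω ∈ Submodule.span S (Set.range (KaehlerDifferential.D A S)) := by
      rw [KaehlerDifferential.span_range_derivation]; trivial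
    induction hω using Submodule.span_induction generalizing k with
    | mem x hx =>
      obtain ⟨b, rfl⟩ := hx
      obtain ⟨a, ha⟩ := residue_surjective (algebraMap S (ResidueField A) b)
      obtain ⟨c, hc⟩ := residue_surjective k
      refine ⟨c • (b - algebraMap A S a), ?_, ?_⟩
      · have h1 : algebraMap S (ResidueField A) (algebraMap A S a) = residue A a :=
          (IsScalarTower.algebraMap_apply A S (ResidueField A) a).symm
        rw [Algebra.smul_def, map_mul, map_sub, h1, ha, sub_self, mul_zero]
      · rw [δ_smul, hc, sub_eq_add_neg, δ_add, ← map_neg, δ_algebraMap, add_zero, δ,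
          TensorProduct.smul_tmul', smul_eq_mul, mul_one]
    | zero => exact ⟨0, map_zero _, by simp [δ]⟩
    | add x y _ _ hx hy =>
      obtain ⟨a, ha, ha'⟩ := hx k
      obtain ⟨b, hb, hb'⟩ := hy k
      exact ⟨a + b, by rw [map_add, ha, hb, add_zero], by rw [δ_add, ha', hb', tmul_add]⟩
    | smul s x _ hx =>
      obtain ⟨a, ha, ha'⟩ := hx (s • k)
      exact ⟨a, ha, by rw [ha', TensorProduct.smul_tmul]⟩

variable {A S}

/-- The derivation `b ↦ δ (ρ b)`. -/
noncomputable def der (ρ : S →+* S) (α : A →+* A) (hρ : ∀ a, ρ (algebraMap A S a) =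
    algebraMap A S (α a)) (hψ : ∀ b, algebraMap S (ResidueField A) (ρ b) = algebraMap S _ b) :
    Derivation A S (T A S) :=
  Derivation.mk' { toFun := fun b => δ A S (ρ b)
                   map_add' := fun x y => by rw [map_add, δ_add]
                   map_smul' := fun a b => by
                    rw [Algebra.smul_def, map_mul, hρ, δ_mul, δ_algebraMap, smul_zero, add_zero,
                      ← hρ, hψ, ← IsScalarTower.algebraMap_apply A S (ResidueField A),
                      algebraMap_smul]
                    rfl }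
    fun b c => by
      show δ A S (ρ (b * c)) = b • δ A S (ρ c) + c • δ A S (ρ b)
      rw [map_mul, δ_mul, hψ, hψ, algebraMap_smul, algebraMap_smul]

/-- The action on the cotangent space. -/
noncomputable def cact (ρ : S →+* S) (α : A →+* A) (hρ : ∀ a, ρ (algebraMap A S a) =
    algebraMap A S (α a)) (hψ : ∀ b, algebraMap S (ResidueField A) (ρ b) = algebraMap S _ b) :
    T A S →ₗ[ResidueField A] T A S :=
  (der ρ α hρ hψ).liftKaehlerDifferential.liftBaseChange (ResidueField A)

theorem cact_δ (ρ : S →+* S) (α : A →+* A) (hρ : ∀ a, ρ (algebraMap A S a) =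
    algebraMap A S (α a)) (hψ : ∀ b, algebraMap S (ResidueField A) (ρ b) = algebraMap S _ b)
    (b : S) : cact ρ α hρ hψ (δ A S b) = δ A S (ρ b) := by
  show (der ρ α hρ hψ).liftKaehlerDifferential.liftBaseChange (ResidueField A)
    (1 ⊗ₜ KaehlerDifferential.D A S b) = _
  rw [LinearMap.liftBaseChange_one_tmul, Derivation.liftKaehlerDifferential_comp_D]
  rfl

theorem ext_δ {V : Type*} [AddCommMonoid V] [Module (ResidueField A) V]
    {f g : T A S →ₗ[ResidueField A] V} (h : ∀ b, f (δ A S b) = g (δ A S b)) : f = g :=
  LinearMap.ext fun t => by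
    obtain ⟨y, -, rfl⟩ := exists_δ A S t
    exact h y

end Cot

/-- The index type `Fin n × G` with the left regular action on the second factor. -/
def Idx (n : ℕ) (G : Type u) := Fin n × G

noncomputable instance (n : ℕ) (G : Type u) [Finite G] : Fintype (Idx n G) :=
  haveI := Fintype.ofFinite G
  inferInstanceAs (Fintype (Fin n × G))

noncomputable instance (n : ℕ) (G : Type u) : DecidableEq (Idx n G) := Classical.decEq _

instance (n : ℕ) (G : Type u) [Group G] : MulAction G (Idx n G) where
  smul g p := (p.1, g * p.2)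
  one_smul p := by show (p.1, 1 * p.2) = p; rw [one_mul]; rfl
  mul_smul g h p := by show (p.1, g * h * p.2) = (p.1, g * (h * p.2)); rw [mul_assoc]

section Main

variable (A : Type u) [CommRing A] [HenselianLocalRing A] (S : Type u) [CommRing S] [Algebra A S]
  [Algebra.Smooth A S] [Algebra S (ResidueField A)] [IsScalarTower A S (ResidueField A)]
  (G : Type u) [Group G] [Finite G] [MulSemiringAction G A]

/-- Permutation of coordinates. -/
noncomputable def perm {n : ℕ} (g : G) : (Idx n G → ResidueField A) →ₗ[ResidueField A] (Idx n G → ResidueField A) :=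
  LinearMap.funLeft _ _ (fun p => g⁻¹ • p)

theorem perm_single {n : ℕ} (g : G) (p : Idx n G) :
    perm A G g (Pi.single p (1 : ResidueField A)) = Pi.single (g • p) (1 : ResidueField A) := by
  ext q
  show (Pi.single p (1 : ResidueField A) : Idx n G → ResidueField A) (g⁻¹ • q) = _
  by_cases h : q = g • p
  · subst h
    rw [inv_smul_smul, Pi.single_eq_same, Pi.single_eq_same]
  · rw [Pi.single_eq_of_ne h, Pi.single_eq_of_ne]
    intro h'
    exact h (by rw [← h', smul_inv_smul])

theorem perm_mul {n : ℕ} (g h : G) (v : Idx n G → ResidueField A) :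
    perm A G (g * h) v = perm A G g (perm A G h v) := by
  ext q
  show v ((g * h)⁻¹ • q) = v (h⁻¹ • g⁻¹ • q)
  rw [mul_inv_rev, mul_smul]

/-- Maschke: an equivariant idempotent projecting onto a complement of the kernel. -/
theorem exists_equiv_idem {n : ℕ} (hG : IsUnit ((Nat.card G : ℕ) : ResidueField A))
    {V : Type u} [AddCommGroup V] [Module (ResidueField A) V]
    (c : G → V →ₗ[ResidueField A] V) (hc1 : c 1 = LinearMap.id)
    (hcm : ∀ g h, c (g * h) = (c g).comp (c h))
    (bas : Module.Basis (Fin n) (ResidueField A) V)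
    (w : Idx n G → V) (hw1 : ∀ j, w (j, 1) = bas j) (hwm : ∀ g p, w (g • p) = c g (w p)) :
    ∃ s : V →ₗ[ResidueField A] (Idx n G → ResidueField A),
      (∀ t, Fintype.linearCombination (ResidueField A) w (s t) = t) ∧
      ∀ g t, s (c g t) = perm A G g (s t) := by
  classical
  haveI := Fintype.ofFinite G
  obtain ⟨m, hm⟩ := hG
  let s₀ : V →ₗ[ResidueField A] (Idx n G → ResidueField A) :=
    bas.constr (ResidueField A) (fun j => Pi.single (j, 1) 1)
  have hθ : ∀ g v, Fintype.linearCombination (ResidueField A) w (perm A G g v) =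
      c g (Fintype.linearCombination (ResidueField A) w v) := by
    intro g v
    have : (Fintype.linearCombination (ResidueField A) w).comp (perm A G g) =
        (c g).comp (Fintype.linearCombination (ResidueField A) w) := by
      refine (Pi.basisFun (ResidueField A) (Idx n G)).ext fun p => ?_
      rw [Pi.basisFun_apply, LinearMap.comp_apply, LinearMap.comp_apply, perm_single,
        Fintype.linearCombination_apply_single, Fintype.linearCombination_apply_single,
        one_smul, one_smul, hwm]
    exact LinearMap.congr_fun this v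
  have hs₀ : ∀ t, Fintype.linearCombination (ResidueField A) w (s₀ t) = t := by
    intro t
    have : (Fintype.linearCombination (ResidueField A) w).comp s₀ = LinearMap.id := by
      refine bas.ext fun j => ?_
      rw [LinearMap.comp_apply, Module.Basis.constr_basis, Fintype.linearCombination_apply_single,
        one_smul, hw1]
      rfl
    exact LinearMap.congr_fun this t
  let s : V →ₗ[ResidueField A] (Idx n G → ResidueField A) :=
    (↑m⁻¹ : ResidueField A) • ∑ g : G, (perm A G g).comp (s₀.comp (c g⁻¹))
  have hs : ∀ t, s t = (↑m⁻¹ : ResidueField A) • ∑ g : G, perm A G g (s₀ (c g⁻¹ t)) := by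
    intro t
    simp only [s, LinearMap.smul_apply, LinearMap.sum_apply, LinearMap.comp_apply]
  refine ⟨s, fun t => ?_, fun g t => ?_⟩
  · rw [hs, map_smul, map_sum]
    have : ∀ g : G, Fintype.linearCombination (ResidueField A) w (perm A G g (s₀ (c g⁻¹ t))) = t := by
      intro g
      rw [hθ, hs₀, ← LinearMap.comp_apply, ← hcm, mul_inv_cancel, hc1]
      rfl
    simp only [this, Finset.sum_const, Finset.card_univ, ← Nat.card_eq_fintype_card]
    rw [← Nat.cast_smul_eq_nsmul (ResidueField A), ← hm, smul_smul, Units.inv_mul, one_smul]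
  · rw [hs, hs, map_smul, map_sum]
    congr 1
    refine (Fintype.sum_bijective (fun k => g * k) (Group.mulLeft_bijective g) _ _ fun k => ?_).symm
    rw [perm_mul, ← LinearMap.comp_apply (c (g * k)⁻¹), ← hcm]
    congr 4
    group

theorem exists_equivariant (hG : IsUnit ((Nat.card G : ℕ) : ResidueField A))
    (htriv : ∀ (g : G) (a : A), g • a - a ∈ maximalIdeal A)
    (ρ : G → S →+* S) (hρ1 : ∀ b, ρ 1 b = b) (hρm : ∀ g h b, ρ (g * h) b = ρ g (ρ h b))
    (hρ : ∀ g a, ρ g (algebraMap A S a) = algebraMap A S (g • a))
    (hψ : ∀ g b, algebraMap S (ResidueField A) (ρ g b) = algebraMap S (ResidueField A) b) :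
    ∃ s : S →ₐ[A] A, (∀ x, residue A (s x) = algebraMap S (ResidueField A) x) ∧
      ∀ g b, s (ρ g b) = g • s b := by
  classical
  let n := Module.finrank (ResidueField A) (T A S)
  let bas : Module.Basis (Fin n) (ResidueField A) (T A S) := Module.finBasis _ _
  choose y0 hy0 hy0' using fun j => exists_δ A S (bas j)
  let z : Idx n G → S := fun p => ρ p.2 (y0 p.1)
  have hz : ∀ (g : G) (p : Idx n G), z (g • p) = ρ g (z p) := fun g p => hρm _ _ _
  have hzψ : ∀ p, algebraMap S (ResidueField A) (z p) = 0 := fun p => by
    show algebraMap S (ResidueField A) (ρ p.2 (y0 p.1)) = 0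
    rw [hψ, hy0]
  let c : G → T A S →ₗ[ResidueField A] T A S := fun g =>
    cact (ρ g) (MulSemiringAction.toRingHom G A g) (hρ g) (hψ g)
  have hc : ∀ g b, c g (δ A S b) = δ A S (ρ g b) := fun g b => cact_δ ..
  have hc1 : c 1 = LinearMap.id := ext_δ fun b => by rw [hc, hρ1]; rfl
  have hcm : ∀ g h, c (g * h) = (c g).comp (c h) := fun g h => ext_δ fun b => by
    rw [LinearMap.comp_apply, hc, hc, hc, hρm]
  let w : Idx n G → T A S := fun p => δ A S (z p)
  have hw1 : ∀ j, w (j, 1) = bas j := fun j => by
    show δ A S (ρ 1 (y0 j)) = _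
    rw [hρ1, hy0']
  have hwm : ∀ g p, w (g • p) = c g (w p) := fun g p => by
    show δ A S (z (g • p)) = c g (δ A S (z p))
    rw [hz, hc]
  obtain ⟨s, hs1, hs2⟩ := exists_equiv_idem A G hG c hc1 hcm bas w hw1 hwm
  set θ := Fintype.linearCombination (ResidueField A) w with hθ
  have hθg : ∀ g v, θ (perm A G g v) = c g (θ v) := by
    intro g v
    have : θ.comp (perm A G g) = (c g).comp θ := by
      refine (Pi.basisFun (ResidueField A) (Idx n G)).ext fun p => ?_
      rw [Pi.basisFun_apply, LinearMap.comp_apply, LinearMap.comp_apply, perm_single,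
        hθ, Fintype.linearCombination_apply_single, Fintype.linearCombination_apply_single,
        one_smul, one_smul, hwm]
    exact LinearMap.congr_fun this v
  let e0 : (Idx n G → ResidueField A) →ₗ[ResidueField A] (Idx n G → ResidueField A) := s.comp θ
  let E₀ : Matrix (Idx n G) (Idx n G) (ResidueField A) := LinearMap.toMatrix' e0
  have hE₀ : ∀ q p, E₀ q p = s (w p) q := by
    intro q p
    show LinearMap.toMatrix' e0 q p = _
    rw [LinearMap.toMatrix'_apply]
    show s (θ (Pi.single p 1)) q = _
    rw [hθ, Fintype.linearCombination_apply_single, one_smul]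
  have hid : IsIdempotentElem E₀ := by
    show LinearMap.toMatrix' e0 * LinearMap.toMatrix' e0 = _
    rw [← LinearMap.toMatrix'_comp]
    congr 1
    refine LinearMap.ext fun v => ?_
    show s (θ (s (θ v))) = s (θ v)
    rw [hs1]
  have hinv : ∀ (g : G) (i j : Idx n G), E₀ (g • i) (g • j) = E₀ i j := by
    intro g i j
    rw [hE₀, hE₀, hwm, hs2]
    show s (w j) (g⁻¹ • g • i) = _
    rw [inv_smul_smul]
  obtain ⟨E, hE1, hE2, hE3, hE4⟩ := K50.FixHens.exists_idem hG htriv E₀ hid hinv
  have hEres : ∀ q p, residue A (E q p) = s (w p) q := fun q p => by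
    rw [← hE₀]; exact congrFun (congrFun hE4 q) p
  let z' : Idx n G → S := fun p => ∑ q, E q p • z q
  have hz'g : ∀ (g : G) (p : Idx n G), ρ g (z' p) = z' (g • p) := by
    intro g p
    show ρ g (∑ q, E q p • z q) = ∑ q, E q (g • p) • z q
    rw [map_sum]
    refine Fintype.sum_bijective (fun q => g • q) (MulAction.bijective g) _ _ fun q => ?_
    rw [Algebra.smul_def, map_mul, hρ, hE3, hE2, hz, Algebra.smul_def]
  have hz'ψ : ∀ p, algebraMap S (ResidueField A) (z' p) = 0 := by
    intro p
    show algebraMap S (ResidueField A) (∑ q, E q p • z q) = 0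
    rw [map_sum]
    refine Finset.sum_eq_zero fun q _ => ?_
    rw [Algebra.smul_def, map_mul, hzψ, mul_zero]
  have hz'δ : ∀ p, δ A S (z' p) = w p := by
    intro p
    show δ A S (∑ q, E q p • z q) = w p
    rw [δ_sum]
    simp only [δ_smul, hEres]
    exact hs1 (w p)
  let y : Fin n → S := fun j => z' (j, 1)
  have hyb : ∀ j, bas j = 1 ⊗ₜ KaehlerDifferential.D A S (y j) := fun j => by
    rw [← hw1, ← hz'δ]
    rfl
  obtain ⟨σ, hσ1, hσ2, hσ3⟩ := K50.EtBasis.exists_section A S y (fun i => hz'ψ _) bas hyb
  -- all `z'` are in the span of the `y`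
  let col : Idx n G → Idx n G → A := fun p q => E q p
  have hcol : ∀ p, ∑ q, col p q • col q = col p := by
    intro p
    ext r
    rw [Finset.sum_apply]
    show ∑ q, E q p * E r q = E r p
    have h1 := congrFun (congrFun hE1.eq r) p
    rw [Matrix.mul_apply] at h1
    rw [← h1]
    exact Finset.sum_congr rfl fun q _ => mul_comm _ _
  let M : Submodule A (Idx n G → A) := Submodule.span A (Set.range col)
  let W : Submodule A (Idx n G → A) := Submodule.span A (Set.range fun j : Fin n => col (j, 1))
  have hMW : M ≤ W := by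
    refine Submodule.le_of_le_smul_of_le_jacobson_bot (I := maximalIdeal A)
      (Submodule.fg_span (Set.finite_range _))
      (by rw [jacobson_eq_maximalIdeal]; exact bot_ne_top) ?_
    refine Submodule.span_le.mpr ?_
    rintro _ ⟨p, rfl⟩
    choose a ha using fun j => residue_surjective (bas.repr (w p) j)
    let v : Idx n G → A := col p - ∑ j, a j • col (j, 1)
    have hv : ∀ q, v q ∈ maximalIdeal A := by
      intro q
      rw [← residue_eq_zero_iff]
      show residue A (col p q - (∑ j, a j • col (j, 1)) q) = 0
      rw [Finset.sum_apply, map_sub, map_sum]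
      show residue A (E q p) - ∑ j, residue A (a j * E q (j, 1)) = 0
      simp only [map_mul, ha, hEres, hw1]
      have h2 : s (w p) = ∑ j, bas.repr (w p) j • s (bas j) := by
        conv_lhs => rw [← bas.sum_repr (w p), map_sum]
        simp only [map_smul]
      rw [h2, Finset.sum_apply, sub_eq_zero]
      rfl
    have hv2 : ∑ q, v q • col q = v := by
      have hlin : ∀ u : Idx n G → A, ∑ q, u q • col q = Fintype.linearCombination A col u :=
        fun u => rfl
      have hcol' : ∀ p, Fintype.linearCombination A col (col p) = col p := hcol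
      rw [hlin]
      simp only [v, map_sub, map_sum, map_smul, hcol']
    have hv3 : v ∈ maximalIdeal A • M := by
      rw [← hv2]
      exact Submodule.sum_mem _ fun q _ => Submodule.smul_mem_smul (hv q)
        (Submodule.subset_span ⟨q, rfl⟩)
    have h3 : col p = (∑ j, a j • col (j, 1)) + v := by simp [v]
    show col p ∈ W ⊔ maximalIdeal A • M
    rw [h3]
    refine Submodule.add_mem_sup ?_ hv3
    exact Submodule.sum_mem _ fun j _ => Submodule.smul_mem _ _ (Submodule.subset_span ⟨j, rfl⟩)
  have hz'σ : ∀ p, σ (z' p) = 0 := by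
    intro p
    have h4 : col p ∈ W := hMW (Submodule.subset_span ⟨p, rfl⟩)
    have h5 : W ≤ LinearMap.ker (σ.toLinearMap.comp (Fintype.linearCombination A z)) := by
      refine Submodule.span_le.mpr ?_
      rintro _ ⟨j, rfl⟩
      exact hσ1 j
    exact h5 h4
  refine ⟨σ, hσ2, fun g b => ?_⟩
  let σg : S →ₐ[A] A :=
    { toRingHom := (MulSemiringAction.toRingHom G A g⁻¹).comp (σ.toRingHom.comp (ρ g))
      commutes' := fun a => by
        show g⁻¹ • σ (ρ g (algebraMap A S a)) = a
        rw [hρ, σ.commutes]
        exact inv_smul_smul g a }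
  have hσg : ∀ x, σg x = g⁻¹ • σ (ρ g x) := fun x => rfl
  have h6 : σg = σ := by
    refine hσ3 σg (fun i => ?_) (fun x => ?_)
    · rw [hσg, hz'g, hz'σ, smul_zero]
    · rw [hσg]
      have h7 : residue A (g⁻¹ • σ (ρ g x)) = residue A (σ (ρ g x)) := by
        rw [← sub_eq_zero, ← map_sub, residue_eq_zero_iff]
        exact htriv _ _
      rw [h7, hσ2, hψ]
  have h8 := congrArg (g • ·) (DFunLike.congr_fun h6 b)
  simp only [hσg, smul_inv_smul] at h8
  exact h8

end Main

end K50.EqSec
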