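import Groth.Agent.BSB.K50.EqSec
import Groth.Agent.Sga1.StableAffine
import Mathlib.AlgebraicGeometry.Morphisms.Smooth
import Mathlib.AlgebraicGeometry.Morphisms.Etale

/-!
# Equivariant sections of smooth morphisms over a henselian local ring
-/

set_option autoImplicit false
set_option linter.unusedSectionVars false
set_option linter.style.haveILetI false
universe u

namespace K50.EqSecSch

open AlgebraicGeometry CategoryTheory IsLocalRing

variable (A : Type u) [CommRing A] [HenselianLocalRing A]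
    (G : Type u) [Group G] [Finite G] [MulSemiringAction G A]

theorem affine (hG : IsUnit ((Nat.card G : ℕ) : ResidueField A))
    (htriv : ∀ (g : G) (a : A), g • a - a ∈ maximalIdeal A)
    (S : CommRingCat.{u}) (f : Spec S ⟶ Spec (CommRingCat.of A)) [Smooth f]
    (σ : G → (Spec S ⟶ Spec S)) (hσ1 : σ 1 = 𝟙 _) (hσmul : ∀ g h : G, σ (g * h) = σ g ≫ σ h)
    (hσf : ∀ g : G, σ g ≫ f = f ≫ Spec.map (CommRingCat.ofHom (MulSemiringAction.toRingHom G A g)))
    (x : Spec (CommRingCat.of (ResidueField A)) ⟶ Spec S)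
    (hx : x ≫ f = Spec.map (CommRingCat.ofHom (residue A)))
    (hfix : ∀ g : G, x ≫ σ g = x) :
    ∃ a : Spec (CommRingCat.of A) ⟶ Spec S, a ≫ f = 𝟙 _ ∧
      Spec.map (CommRingCat.ofHom (residue A)) ≫ a = x ∧
      ∀ g : G, Spec.map (CommRingCat.ofHom (MulSemiringAction.toRingHom G A g)) ≫ a = a ≫ σ g := by
  obtain ⟨φ, rfl⟩ := Spec.map_surjective f
  obtain ⟨ψ, rfl⟩ := Spec.map_surjective x
  choose ρ hρ using fun g => Spec.map_surjective (σ g)
  obtain rfl : σ = fun g => Spec.map (ρ g) := funext fun g => (hρ g).symm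
  clear hρ
  have hφ : φ.hom.Smooth := (HasRingHomProperty.Spec_iff (P := @Smooth)).mp ‹_›
  letI := φ.hom.toAlgebra
  haveI : Algebra.Smooth A S := hφ
  letI : Algebra S (ResidueField A) := ψ.hom.toAlgebra
  rw [← Spec.map_comp] at hx
  have hx' := Spec.map_injective hx
  have hx'' : ∀ a, ψ.hom (φ.hom a) = residue A a := fun a => congrArg (fun t => t.hom a) hx'
  haveI : IsScalarTower A S (ResidueField A) := IsScalarTower.of_algebraMap_eq fun a =>
    (hx'' a).symm
  have k1 : ∀ b, (ρ 1).hom b = b := fun b => by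
    have : ρ 1 = 𝟙 _ := Spec.map_injective (by rw [Spec.map_id]; exact hσ1)
    rw [this]; rfl
  have k2 : ∀ g h b, (ρ (g * h)).hom b = (ρ g).hom ((ρ h).hom b) := fun g h b => by
    have : ρ (g * h) = ρ h ≫ ρ g := Spec.map_injective (by rw [Spec.map_comp]; exact hσmul g h)
    rw [this]; rfl
  have k3 : ∀ g a, (ρ g).hom (algebraMap A S a) = algebraMap A S (g • a) := fun g a => by
    have h1 := hσf g
    rw [← Spec.map_comp, ← Spec.map_comp] at h1
    exact congrArg (fun t => t.hom a) (Spec.map_injective h1)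
  have k4 : ∀ g b, algebraMap S (ResidueField A) ((ρ g).hom b) = algebraMap S (ResidueField A) b :=
    fun g b => by
    have h1 := hfix g
    rw [← Spec.map_comp] at h1
    exact congrArg (fun t => t.hom b) (Spec.map_injective h1)
  obtain ⟨s, hs1, hs2⟩ := K50.EqSec.exists_equivariant A S G hG htriv (fun g => (ρ g).hom)
    k1 k2 k3 k4
  refine ⟨Spec.map (CommRingCat.ofHom s.toRingHom), ?_, ?_, fun g => ?_⟩
  · rw [← Spec.map_comp, ← Spec.map_id]
    congr 1
    ext a
    exact s.commutes a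
  · rw [← Spec.map_comp]
    congr 1
    ext b
    exact hs1 b
  · rw [← Spec.map_comp, ← Spec.map_comp]
    congr 1
    ext b
    exact (hs2 g b).symm

/-- The homomorphism to the automorphism group attached to a right action. -/
def toAut {X : Scheme.{u}} (σ : G → (X ⟶ X)) (hσ1 : σ 1 = 𝟙 _)
    (hσmul : ∀ g h : G, σ (g * h) = σ g ≫ σ h) : G →* Aut X where
  toFun g := ⟨σ g⁻¹, σ g, by rw [← hσmul, inv_mul_cancel, hσ1], by rw [← hσmul, mul_inv_cancel, hσ1]⟩
  map_one' := by
    apply Iso.ext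
    show σ 1⁻¹ = 𝟙 X
    rw [inv_one, hσ1]
  map_mul' g h := by
    apply Iso.ext
    show σ (g * h)⁻¹ = σ h⁻¹ ≫ σ g⁻¹
    rw [mul_inv_rev, hσmul]

theorem main (hG : IsUnit ((Nat.card G : ℕ) : ResidueField A))
    (htriv : ∀ (g : G) (a : A), g • a - a ∈ maximalIdeal A)
    (X : Scheme.{u}) (f : X ⟶ Spec (CommRingCat.of A)) [Smooth f]
    (σ : G → (X ⟶ X)) (hσ1 : σ 1 = 𝟙 _) (hσmul : ∀ g h : G, σ (g * h) = σ g ≫ σ h)
    (hσf : ∀ g : G, σ g ≫ f = f ≫ Spec.map (CommRingCat.ofHom (MulSemiringAction.toRingHom G A g)))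
    (x : Spec (CommRingCat.of (ResidueField A)) ⟶ X)
    (hx : x ≫ f = Spec.map (CommRingCat.ofHom (residue A)))
    (hfix : ∀ g : G, x ≫ σ g = x) :
    ∃ a : Spec (CommRingCat.of A) ⟶ X, a ≫ f = 𝟙 _ ∧
      Spec.map (CommRingCat.ofHom (residue A)) ≫ a = x ∧
      ∀ g : G, Spec.map (CommRingCat.ofHom (MulSemiringAction.toRingHom G A g)) ≫ a = a ≫ σ g := by
  let x₀ : X := x (closedPoint (ResidueField A))
  have hfix₀ : ∀ g, σ g x₀ = x₀ := fun g => by
    show (x ≫ σ g) _ = _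
    rw [hfix]
  obtain ⟨U, hU, hxU, -⟩ := exists_isAffineOpen_mem_and_subset (X := X) (x := x₀) (U := ⊤) trivial
  obtain ⟨V, hV, hVs, hxV, -, -⟩ := Groth.Agent.Sga1.StableAffine.exists_stable_affine
    (ρ := toAut G σ hσ1 hσmul) (x := x₀) (W := ⊤) hU
    (fun g => by show σ g⁻¹ x₀ ∈ U; rw [hfix₀]; exact hxU)
    Groth.Agent.Sga1.QuotBasic.stable_top trivial
  have hVσ : ∀ g, V ≤ σ g ⁻¹ᵁ V := fun g => by
    have := hVs g⁻¹
    have h1 : (toAut G σ hσ1 hσmul g⁻¹).hom = σ g := by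
      show σ g⁻¹⁻¹ = σ g
      rw [inv_inv]
    rwa [h1] at this
  let j : Spec Γ(X, V) ⟶ X := hV.fromSpec
  have hjr : Set.range j = V := hV.range_fromSpec
  have hrσ : ∀ g, Set.range (j ≫ σ g) ⊆ Set.range j := by
    rintro g _ ⟨y, rfl⟩
    rw [hjr]
    exact hVσ g (show j y ∈ V by rw [← SetLike.mem_coe, ← hjr]; exact ⟨y, rfl⟩)
  have hrx : Set.range x ⊆ Set.range j := by
    rintro _ ⟨y, rfl⟩
    have hy : y = closedPoint (ResidueField A) := Subsingleton.elim _ _
    rw [hy, hjr]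
    exact hxV
  let σ' : G → (Spec Γ(X, V) ⟶ Spec Γ(X, V)) := fun g => IsOpenImmersion.lift j (j ≫ σ g) (hrσ g)
  have hσ' : ∀ g, σ' g ≫ j = j ≫ σ g := fun g => IsOpenImmersion.lift_fac _ _ _
  let x' : Spec (CommRingCat.of (ResidueField A)) ⟶ Spec Γ(X, V) := IsOpenImmersion.lift j x hrx
  have hx' : x' ≫ j = x := IsOpenImmersion.lift_fac _ _ _
  obtain ⟨a, ha1, ha2, ha3⟩ := affine A G hG htriv Γ(X, V) (j ≫ f) σ'
    (by rw [← cancel_mono j, hσ', hσ1, Category.comp_id, Category.id_comp])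
    (fun g h => by
      rw [← cancel_mono j, hσ', hσmul, Category.assoc, hσ', ← Category.assoc, ← Category.assoc, hσ'])
    (fun g => by rw [← Category.assoc, hσ', Category.assoc, hσf, Category.assoc])
    x' (by rw [← Category.assoc, hx', hx])
    (fun g => by rw [← cancel_mono j, Category.assoc, hσ', ← Category.assoc, hx', hfix])
  refine ⟨a ≫ j, by rw [Category.assoc, ha1], by rw [← Category.assoc, ha2, hx'], fun g => ?_⟩
  rw [← Category.assoc, ha3, Category.assoc, hσ', Category.assoc]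

end K50.EqSecSch
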