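import Groth.Agent.Sga4A.TotAcyc
import Mathlib.CategoryTheory.Abelian.Injective.Basic

/-!
# `Ext¹(X, Y) = 0` if every extension splits
-/

set_option autoImplicit false
set_option linter.unusedSectionVars false
universe v u

open CategoryTheory CategoryTheory.Limits

namespace K50.ExtSplit

variable {C : Type u} [Category.{v} C] [Abelian C]

theorem shortExact_pullback {S : ShortComplex C} (hS : S.ShortExact) {X : C} (q : X ⟶ S.X₃) :
    (ShortComplex.mk (pullback.lift S.f 0 (by rw [S.zero, zero_comp]) : S.X₁ ⟶ pullback S.g q)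
      (pullback.snd S.g q) (pullback.lift_snd _ _ _)).ShortExact := by
  have := hS.mono_f
  have := hS.epi_g
  have hm : Mono (pullback.lift S.f 0 (by rw [S.zero, zero_comp]) : S.X₁ ⟶ pullback S.g q) := by
    have h1 : (pullback.lift S.f 0 (by rw [S.zero, zero_comp]) : S.X₁ ⟶ pullback S.g q) ≫
        pullback.fst S.g q = S.f := pullback.lift_fst _ _ _
    exact mono_of_mono_fac h1
  refine { exact := ?_, mono_f := hm, epi_g := inferInstanceAs (Epi (pullback.snd S.g q)) }
  refine ShortComplex.exact_of_f_is_kernel _ (KernelFork.IsLimit.ofι _ _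
    (fun {Z} k hk => hS.exact.lift (k ≫ pullback.fst S.g q) (by
      have h2 : k ≫ pullback.snd S.g q = 0 := hk
      rw [Category.assoc, pullback.condition, ← Category.assoc, h2, zero_comp])) ?_ ?_)
  · intro Z k hk
    have h2 : k ≫ pullback.snd S.g q = 0 := hk
    apply pullback.hom_ext
    · rw [Category.assoc]
      refine (congrArg (_ ≫ ·) (pullback.lift_fst _ _ _)).trans ?_
      exact hS.exact.lift_f _ _
    · rw [Category.assoc]
      refine (congrArg (_ ≫ ·) (pullback.lift_snd _ _ _)).trans ?_
      rw [comp_zero, h2]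
  · intro Z k hk m hm'
    rw [← cancel_mono S.f]
    rw [hS.exact.lift_f, ← hm', Category.assoc]
    exact congrArg (m ≫ ·) (pullback.lift_fst _ _ _).symm

theorem subsingleton_ext_one [EnoughInjectives C] [HasExt C] (X Y : C)
    (h : ∀ (E : C) (a : Y ⟶ E) (b : E ⟶ X) (w : a ≫ b = 0),
      (ShortComplex.mk a b w).ShortExact → IsSplitMono a) :
    Subsingleton (Abelian.Ext X Y 1) := by
  let S : ShortComplex C := ShortComplex.mk (Injective.ι Y) (cokernel.π (Injective.ι Y))
    (cokernel.condition _)
  have hS : S.ShortExact :=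
    { exact := ShortComplex.exact_cokernel _
      mono_f := inferInstanceAs (Mono (Injective.ι Y))
      epi_g := inferInstanceAs (Epi (cokernel.π (Injective.ι Y))) }
  haveI : Injective S.X₂ := inferInstanceAs (Injective (Injective.under Y))
  refine Groth.Agent.Sga4A.TotAcyc.subsingleton_ext_one_of_lift hS X fun q => ?_
  have hE := shortExact_pullback hS q
  have hs := h _ _ _ _ hE
  have hsp := ShortComplex.Splitting.ofExactOfRetraction _ hE.exact (@retraction _ _ _ _ _ hs)
    (@IsSplitMono.id _ _ _ _ _ hs) hE.epi_g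
  refine ⟨hsp.s ≫ pullback.fst S.g q, ?_⟩
  rw [Category.assoc, pullback.condition, ← Category.assoc]
  have : hsp.s ≫ pullback.snd S.g q = 𝟙 X := hsp.s_g
  rw [this, Category.id_comp]

end K50.ExtSplit
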