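import Groth.Agent.BSB.K50.LiftIdem
import Mathlib.Algebra.Algebra.Subalgebra.Operations
import Mathlib.LinearAlgebra.Matrix.Reindex
import Mathlib.GroupTheory.Coset.Card

/-!
# The ring of invariants of a henselian local ring; equivariant lifting of idempotent matrices
-/

set_option autoImplicit false
set_option linter.unusedSectionVars false
set_option linter.style.haveILetI false
universe u v

namespace K50.FixHens

open Polynomial Matrix IsLocalRing

variable (A : Type u) [CommRing A] [HenselianLocalRing A] (G : Type v) [Group G]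
  [MulSemiringAction G A]

theorem mem_iff (a : A) : a ∈ FixedPoints.subring A G ↔ ∀ g : G, g • a = a := Iff.rfl

theorem isUnit_iff (a : FixedPoints.subring A G) : IsUnit a ↔ IsUnit (a : A) := by
  refine ⟨fun h => h.map (FixedPoints.subring A G).subtype, fun h => ?_⟩
  obtain ⟨b, hb⟩ := h.exists_right_inv
  have hbm : b ∈ FixedPoints.subring A G := by
    intro g
    have h1 : (a : A) * (g • b) = 1 := by
      have := congrArg (g • ·) hb
      simp only [smul_mul', smul_one] at this
      rwa [a.2 g] at this
    calc g • b = (b * a) * (g • b) := by rw [mul_comm b, hb, one_mul]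
      _ = b := by rw [mul_assoc, h1, mul_one]
  exact IsUnit.of_mul_eq_one ⟨b, hbm⟩ (Subtype.ext hb)

instance isLocalHom : IsLocalHom (FixedPoints.subring A G).subtype :=
  ⟨fun a h => (isUnit_iff A G a).mpr h⟩

instance isLocalRing : IsLocalRing (FixedPoints.subring A G) :=
  RingHom.domain_isLocalRing (FixedPoints.subring A G).subtype

theorem mem_maximalIdeal (a : FixedPoints.subring A G) :
    a ∈ maximalIdeal (FixedPoints.subring A G) ↔ (a : A) ∈ maximalIdeal A := by
  rw [IsLocalRing.mem_maximalIdeal, IsLocalRing.mem_maximalIdeal, mem_nonunits_iff,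
    mem_nonunits_iff, isUnit_iff]

/-- Uniqueness of simple roots modulo the maximal ideal. -/
theorem root_unique {B : Type*} [CommRing B] [IsLocalRing B] (f : B[X]) (a b : B)
    (ha : f.IsRoot a) (hb : f.IsRoot b) (hd : IsUnit (f.derivative.eval a))
    (hab : b - a ∈ maximalIdeal B) : a = b := by
  obtain ⟨k, h1⟩ := f.binomExpansion a (b - a)
  rw [add_sub_cancel, hb.eq_zero, ha.eq_zero, zero_add] at h1
  have h2 : (b - a) * (f.derivative.eval a + k * (b - a)) = 0 := by
    rw [mul_add]
    have := h1.symm
    linear_combination this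
  have h3 : IsUnit (f.derivative.eval a + k * (b - a)) := by
    by_contra h
    have h4 : k * (b - a) ∈ maximalIdeal B := Ideal.mul_mem_left _ _ hab
    have h5 : f.derivative.eval a + k * (b - a) ∈ maximalIdeal B := h
    exact (IsLocalRing.mem_maximalIdeal _).mp ((Ideal.add_mem_iff_left _ h4).mp h5) hd
  exact (sub_eq_zero.mp ((h3.mul_left_eq_zero).mp h2)).symm

theorem henselian (htriv : ∀ (g : G) (a : A), g • a - a ∈ maximalIdeal A) :
    HenselianLocalRing (FixedPoints.subring A G) where
  is_henselian f hf a₀ h0 h1 := by
    let ι := (FixedPoints.subring A G).subtype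
    have e0 : (f.map ι).eval (a₀ : A) = ι (f.eval a₀) := Polynomial.eval_map_apply ι a₀
    have e1 : (f.map ι).derivative.eval (a₀ : A) = ι (f.derivative.eval a₀) := by
      rw [Polynomial.derivative_map]; exact Polynomial.eval_map_apply ι a₀
    obtain ⟨a, ha, ha'⟩ := HenselianLocalRing.is_henselian (f.map ι) (hf.map _) (a₀ : A)
      (by rw [e0]; exact (mem_maximalIdeal A G _).mp h0) (by rw [e1]; exact h1.map ι)
    have hu : IsUnit ((f.map ι).derivative.eval a) := by
      have h2 : IsUnit ((f.map ι).derivative.eval (a₀ : A)) := by rw [e1]; exact h1.map ι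
      have h3 : (f.map ι).derivative.eval a - (f.map ι).derivative.eval (a₀ : A) ∈
          maximalIdeal A := by
        obtain ⟨c, hc⟩ := Polynomial.sub_dvd_eval_sub a (a₀ : A) (f.map ι).derivative
        rw [hc]
        exact Ideal.mul_mem_right _ _ ha'
      by_contra h
      have h4 : (f.map ι).derivative.eval a ∈ maximalIdeal A := h
      have h5 := (maximalIdeal A).sub_mem h4 h3
      rw [sub_sub_cancel] at h5
      exact (IsLocalRing.mem_maximalIdeal _).mp h5 h2
    have hfix : ∀ g : G, g • a = a := by
      intro g
      refine (root_unique (f.map ι) a (g • a) ha ?_ hu (htriv g a)).symm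
      have h4 : (f.map ι).eval (g • a) = g • (f.map ι).eval a := by
        have h5 : (f.map ι).map (MulSemiringAction.toRingHom G A g) = f.map ι := by
          rw [Polynomial.map_map]
          congr 1
          ext x
          exact x.2 g
        conv_lhs => rw [← h5]
        exact Polynomial.eval_map_apply (MulSemiringAction.toRingHom G A g) a
      rw [Polynomial.IsRoot.def, h4, ha.eq_zero, smul_zero]
    refine ⟨⟨a, hfix⟩, ?_, (mem_maximalIdeal A G _).mpr ha'⟩
    have h6 : ι (f.eval ⟨a, hfix⟩) = 0 := by
      rw [← ha.eq_zero]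
      exact (Polynomial.eval_map_apply ..).symm
    exact Subtype.ext h6

variable {A G}

theorem natCast_isUnit (hG : IsUnit ((Nat.card G : ℕ) : ResidueField A)) :
    IsUnit ((Nat.card G : ℕ) : FixedPoints.subring A G) := by
  rw [isUnit_iff]
  have : residue A ((Nat.card G : ℕ) : A) = ((Nat.card G : ℕ) : ResidueField A) := map_natCast _ _
  rw [← this] at hG
  exact (isUnit_map_iff (residue A) _).mp hG

theorem exists_fixed_lift [Finite G] (hG : IsUnit ((Nat.card G : ℕ) : ResidueField A))
    (htriv : ∀ (g : G) (a : A), g • a - a ∈ maximalIdeal A) (x : ResidueField A) :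
    ∃ r : FixedPoints.subring A G, residue A (r : A) = x := by
  classical
  haveI := Fintype.ofFinite G
  obtain ⟨a, rfl⟩ := residue_surjective x
  obtain ⟨n, hn⟩ := natCast_isUnit hG
  let s : A := ∑ g : G, g • a
  have hs : ∀ h : G, h • s = s := by
    intro h
    simp only [s, Finset.smul_sum, smul_smul]
    exact Fintype.sum_bijective (fun g => h * g) (Group.mulLeft_bijective h) _ _ (fun _ => rfl)
  have hres : ∀ g : G, residue A (g • a) = residue A a := by
    intro g
    rw [← sub_eq_zero, ← map_sub, residue_eq_zero_iff]
    exact htriv g a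
  refine ⟨(↑n⁻¹ : FixedPoints.subring A G) * ⟨s, hs⟩, ?_⟩
  have h1 : residue A s = (Nat.card G : ResidueField A) * residue A a := by
    simp only [s, map_sum, hres, Finset.sum_const, nsmul_eq_mul, Finset.card_univ,
      Nat.card_eq_fintype_card]
  have h2 : residue A ((↑n⁻¹ : FixedPoints.subring A G) : A) * (Nat.card G : ResidueField A) = 1 := by
    have h3 : ((↑n⁻¹ : FixedPoints.subring A G) : A) * ((Nat.card G : ℕ) : A) = 1 := by
      have h4 : (↑n⁻¹ : FixedPoints.subring A G) * ((Nat.card G : ℕ) : FixedPoints.subring A G) = 1 := by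
        rw [← hn]; exact n.inv_mul
      exact congrArg Subtype.val h4
    have := congrArg (residue A) h3
    rwa [map_mul, map_one, map_natCast] at this
  show residue A (((↑n⁻¹ : FixedPoints.subring A G) : A) * s) = _
  rw [map_mul, h1, ← mul_assoc, h2, one_mul]

theorem exists_idem [Finite G] (hG : IsUnit ((Nat.card G : ℕ) : ResidueField A))
    (htriv : ∀ (g : G) (a : A), g • a - a ∈ maximalIdeal A)
    {N : Type v} [Fintype N] [DecidableEq N] [MulAction G N]
    (E₀ : Matrix N N (ResidueField A)) (h : IsIdempotentElem E₀)
    (hinv : ∀ (g : G) (i j : N), E₀ (g • i) (g • j) = E₀ i j) :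
    ∃ E : Matrix N N A, IsIdempotentElem E ∧ (∀ (g : G) (i j : N), E (g • i) (g • j) = E i j) ∧
      (∀ (g : G) (i j : N), g • E i j = E i j) ∧ E.map (residue A) = E₀ := by
  classical
  haveI := Fintype.ofFinite G
  haveI : HenselianLocalRing (FixedPoints.subring A G) := henselian A G htriv
  obtain ⟨n, hn⟩ := natCast_isUnit hG
  choose r hr using exists_fixed_lift hG htriv
  let Y : Matrix N N (FixedPoints.subring A G) := fun i j =>
    (↑n⁻¹ : FixedPoints.subring A G) * ∑ g : G, r (E₀ (g • i) (g • j))
  have hYinv : ∀ (g : G) (i j : N), Y (g • i) (g • j) = Y i j := by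
    intro g i j
    simp only [Y, smul_smul]
    congr 1
    exact Fintype.sum_bijective (fun k => k * g) (Group.mulRight_bijective g) _ _ (fun _ => rfl)
  have hYres : ∀ i j, residue A (Y i j : A) = E₀ i j := by
    intro i j
    have h3 : residue A ((↑n⁻¹ : FixedPoints.subring A G) : A) * (Nat.card G : ResidueField A) = 1 := by
      have h3 : ((↑n⁻¹ : FixedPoints.subring A G) : A) * ((Nat.card G : ℕ) : A) = 1 := by
        have h4 : (↑n⁻¹ : FixedPoints.subring A G) *
            ((Nat.card G : ℕ) : FixedPoints.subring A G) = 1 := by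
          rw [← hn]; exact n.inv_mul
        exact congrArg Subtype.val h4
      have := congrArg (residue A) h3
      rwa [map_mul, map_one, map_natCast] at this
    have h5 : residue A ((∑ g : G, r (E₀ (g • i) (g • j)) : FixedPoints.subring A G) : A) =
        (Nat.card G : ResidueField A) * E₀ i j := by
      have h6 : ((∑ g : G, r (E₀ (g • i) (g • j)) : FixedPoints.subring A G) : A) =
          ∑ g : G, (r (E₀ (g • i) (g • j)) : A) := map_sum (FixedPoints.subring A G).subtype _ _
      rw [h6, map_sum]
      simp only [hr, hinv, Finset.sum_const, nsmul_eq_mul, Finset.card_univ,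
        Nat.card_eq_fintype_card]
    show residue A (((↑n⁻¹ : FixedPoints.subring A G) : A) *
      ((∑ g : G, r (E₀ (g • i) (g • j)) : FixedPoints.subring A G) : A)) = _
    rw [map_mul, h5, ← mul_assoc, h3, one_mul]
  -- the comparison of residue fields
  let φ : ResidueField (FixedPoints.subring A G) →+* ResidueField A :=
    IsLocalRing.ResidueField.map (FixedPoints.subring A G).subtype
  have hφ : ∀ x : FixedPoints.subring A G, φ (residue _ x) = residue A (x : A) := fun x => rfl
  have hid : IsIdempotentElem (Y.map (residue _)) := by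
    have hinj : Function.Injective (φ.mapMatrix (m := N)) :=
      Matrix.map_injective φ.injective
    apply hinj
    rw [map_mul]
    have h7 : φ.mapMatrix (Y.map (residue _)) = E₀ := by
      ext i j
      exact hYres i j
    rw [h7]
    exact h
  obtain ⟨q, hq1, hq2⟩ := K50.LiftIdem.exists_poly Y hid
  let ι := (FixedPoints.subring A G).subtype
  refine ⟨ι.mapMatrix (aeval Y q), ?_, ?_, ?_, ?_⟩
  · show _ * _ = _
    rw [← map_mul, hq1.eq]
  · intro g i j
    have h8 : Matrix.reindexAlgEquiv (FixedPoints.subring A G) (FixedPoints.subring A G)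
        (MulAction.toPerm g⁻¹ : Equiv.Perm N) Y = Y := by
      ext i j
      have : (MulAction.toPerm g⁻¹ : Equiv.Perm N).symm = (MulAction.toPerm g : Equiv.Perm N) := by
        ext x
        rw [Equiv.symm_apply_eq]
        simp
      rw [Matrix.coe_reindexAlgEquiv, Matrix.reindex_apply, Matrix.submatrix_apply, this]
      exact congrArg Subtype.val (hYinv g i j)
    have h9 : Matrix.reindexAlgEquiv (FixedPoints.subring A G) (FixedPoints.subring A G)
        (MulAction.toPerm g⁻¹ : Equiv.Perm N) (aeval Y q) = aeval Y q := by
      have := Polynomial.map_aeval_eq_aeval_map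
        (S := Matrix N N (FixedPoints.subring A G)) (T := FixedPoints.subring A G)
        (U := Matrix N N (FixedPoints.subring A G))
        (φ := RingHom.id _) (ψ := ((Matrix.reindexAlgEquiv (FixedPoints.subring A G)
          (FixedPoints.subring A G) (MulAction.toPerm g⁻¹ : Equiv.Perm N)) :
            Matrix N N (FixedPoints.subring A G) →+* Matrix N N (FixedPoints.subring A G))) ?_ q Y
      · rw [Polynomial.map_id] at this
        refine this.trans ?_
        exact congrArg (fun z => aeval z q) h8
      · ext x i j
        simp [Matrix.algebraMap_matrix_apply, MulAction.injective g |>.eq_iff]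
    have h10 := congrFun (congrFun h9 i) j
    rw [Matrix.coe_reindexAlgEquiv, Matrix.reindex_apply, Matrix.submatrix_apply] at h10
    have : (MulAction.toPerm g⁻¹ : Equiv.Perm N).symm = (MulAction.toPerm g : Equiv.Perm N) := by
      ext x
      rw [Equiv.symm_apply_eq]
      simp
    rw [this] at h10
    exact congrArg Subtype.val h10
  · intro g i j
    exact (aeval Y q i j).2 g
  · ext i j
    have h11 := congrFun (congrFun hq2 i) j
    have h12 := congrArg φ h11
    exact h12.trans (hYres i j)

end K50.FixHens
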