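import Groth.Agent.S9316
import Groth.Agent.S3436
import Groth.Agent.S4537
import Groth.Agent.S1350
import Mathlib.AlgebraicGeometry.Morphisms.Smooth

/-!
# Smoothness at a rational point of the closed fibre from lifting along small extensions
-/

set_option autoImplicit false
set_option linter.unusedSectionVars false
set_option linter.style.haveILetI false
universe u

open CategoryTheory CategoryTheory.Limits AlgebraicGeometry IsLocalRing

namespace K50.SmCrit

theorem exists_generator {B : Type u} [CommRing B] [IsLocalRing B] (J : Ideal B)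
    (h : Module.length B J = 1) : ∃ t ∈ J, t ≠ 0 ∧ J = Ideal.span {t} ∧
      ∀ a ∈ maximalIdeal B, a * t = 0 := by
  have hs : IsSimpleModule B J := Module.length_eq_one_iff.mp h
  have hnt : Nontrivial J := IsSimpleModule.nontrivial B J
  obtain ⟨t, ht⟩ := exists_ne (0 : J)
  have h0 : (t : B) ≠ 0 := fun h' => ht (Subtype.ext h')
  have hgen : Submodule.span B {t} = ⊤ := by
    rcases eq_bot_or_eq_top (Submodule.span B {t}) with h1 | h1
    · exact absurd (Submodule.span_singleton_eq_bot.mp h1) ht
    · exact h1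
  refine ⟨t, t.2, h0, ?_, ?_⟩
  · apply le_antisymm
    · intro x hx
      have : (⟨x, hx⟩ : J) ∈ Submodule.span B {t} := by rw [hgen]; trivial
      obtain ⟨a, ha⟩ := Submodule.mem_span_singleton.mp this
      rw [Ideal.mem_span_singleton']
      exact ⟨a, congrArg Subtype.val ha⟩
    · rw [Ideal.span_le, Set.singleton_subset_iff]
      exact t.2
  · intro a ha
    have h2 : (maximalIdeal B • (⊤ : Submodule B J)) = ⊥ := by
      rcases eq_bot_or_eq_top (maximalIdeal B • (⊤ : Submodule B J)) with h1 | h1
      · exact h1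
      · exfalso
        have hfg : (⊤ : Submodule B J).FG := ⟨{t}, by simpa using hgen⟩
        have h3 := Submodule.eq_bot_of_le_smul_of_le_jacobson_bot (maximalIdeal B) ⊤ hfg h1.ge
          (by rw [jacobson_eq_maximalIdeal]; exact bot_ne_top)
        have h4 : t ∈ (⊤ : Submodule B J) := trivial
        rw [h3] at h4
        exact ht ((Submodule.mem_bot B).mp h4)
    have h3 : a • t ∈ (maximalIdeal B • (⊤ : Submodule B J)) :=
      Submodule.smul_mem_smul ha trivial
    rw [h2, Submodule.mem_bot] at h3
    exact congrArg Subtype.val h3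

theorem mem_smoothLocus {A : Type u} [CommRing A] [IsLocalRing A] [IsNoetherianRing A]
    {I : Scheme.{u}} (f : I ⟶ Spec (CommRingCat.of A)) [LocallyOfFinitePresentation f]
    (x : Spec (CommRingCat.of (ResidueField A)) ⟶ I)
    (hx : x ≫ f = Spec.map (CommRingCat.ofHom (residue A)))
    (H : ∀ (B : Type u) [CommRing B] [IsLocalRing B] [IsArtinianRing B] (t : B),
      t ∈ maximalIdeal B → (∀ a ∈ maximalIdeal B, a * t = 0) → t ≠ 0 →
      ∀ (β : Spec (CommRingCat.of B) ⟶ Spec (CommRingCat.of A)) (e : B →+* ResidueField A)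
        (e₁ : B ⧸ Ideal.span {t} →+* ResidueField A),
        e₁.comp (Ideal.Quotient.mk (Ideal.span {t})) = e → Function.Surjective e →
        ∀ (α : Spec (CommRingCat.of (B ⧸ Ideal.span {t})) ⟶ I),
          α ≫ f = Spec.map (CommRingCat.ofHom (Ideal.Quotient.mk (Ideal.span {t}))) ≫ β →
          Spec.map (CommRingCat.ofHom e₁) ≫ α = x →
          ∃ γ : Spec (CommRingCat.of B) ⟶ I, γ ≫ f = β ∧
            Spec.map (CommRingCat.ofHom (Ideal.Quotient.mk (Ideal.span {t}))) ≫ γ = α) :
    x (closedPoint (ResidueField A)) ∈ f.smoothLocus := by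
  have hS : IsLocallyNoetherian (Spec (CommRingCat.of A)) := inferInstance
  have hI : IsLocallyNoetherian I := LocallyOfFiniteType.isLocallyNoetherian f
  set x₀ : I := x (closedPoint (ResidueField A)) with hx₀
  rw [Scheme.Hom.mem_smoothLocus]
  let R := (Spec (CommRingCat.of A)).presheaf.stalk (f x₀)
  let C := I.presheaf.stalk x₀
  letI algRC : Algebra R C := (f.stalkMap x₀).hom.toAlgebra
  change Algebra.FormallySmooth R C
  haveI hloc : IsLocalHom (algebraMap R C) := inferInstanceAs (IsLocalHom (f.stalkMap x₀).hom)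
  haveI : IsNoetherianRing C := inferInstance
  obtain ⟨a, hal, ha⟩ := Groth.Agent.S1350.exists_stalk_hom x x₀ rfl
  have hasurj : Function.Surjective a.hom := by
    intro y
    obtain ⟨r, rfl⟩ := residue_surjective y
    have h1 := hx
    rw [← ha, Category.assoc, ← Scheme.SpecMap_stalkMap_fromSpecStalk, ← Category.assoc,
      ← Spec.map_comp] at h1
    obtain ⟨ρ, hρ⟩ := Spec.map_surjective ((Spec (CommRingCat.of A)).fromSpecStalk (f x₀))
    rw [← hρ, ← Spec.map_comp] at h1
    exact ⟨(f.stalkMap x₀).hom (ρ.hom r), congrArg (fun t => t.hom r) (Spec.map_injective h1)⟩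
  refine (Groth.Agent.S3436.result f x₀).1 ?_
  have key : CAlgX.IsAdicFormallySmooth R C (maximalIdeal C) := by
    rw [Groth.Agent.S9316.result]
    intro B _ _ _ _ _ J hJ2 hJ1 _ ψ _ hbij
    obtain ⟨t, htJ, ht0, rfl, htm⟩ := exists_generator J hJ1
    have htm' : t ∈ maximalIdeal B := by
      rw [IsLocalRing.mem_maximalIdeal, mem_nonunits_iff]
      intro hu
      have h1 : t * t = 0 := by
        have : t * t ∈ (Ideal.span {t}) ^ 2 := by
          rw [pow_two]; exact Ideal.mul_mem_mul htJ htJ
        rwa [hJ2, Ideal.mem_bot] at this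
      exact ht0 ((hu.mul_right_eq_zero).mp h1)
    -- the residue field map
    let rC : ResidueField C →+* ResidueField A := IsLocalRing.ResidueField.lift a.hom
    have hrC : ∀ c, rC (residue C c) = a.hom c := fun c => rfl
    let eψ : ResidueField C ≃+* ResidueField (B ⧸ Ideal.span {t}) :=
      RingEquiv.ofBijective (ResidueField.map ψ.toRingHom) hbij
    have heψ : ∀ c, eψ (residue C c) = residue _ (ψ c) := fun c => rfl
    let e₁ : B ⧸ Ideal.span {t} →+* ResidueField A :=
      rC.comp ((eψ.symm : ResidueField (B ⧸ Ideal.span {t}) →+* ResidueField C).comp (residue _))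
    have he₁ : ∀ c, e₁ (ψ c) = a.hom c := fun c => by
      show rC (eψ.symm (residue _ (ψ c))) = a.hom c
      rw [← heψ, RingEquiv.symm_apply_apply, hrC]
    have he₁s : Function.Surjective e₁ := fun y => by
      obtain ⟨c, hc⟩ := hasurj y
      exact ⟨ψ c, by rw [he₁, hc]⟩
    let β : Spec (CommRingCat.of B) ⟶ Spec (CommRingCat.of A) :=
      Spec.map (CommRingCat.ofHom (algebraMap R B)) ≫ (Spec (CommRingCat.of A)).fromSpecStalk (f x₀)
    let ψ' : C ⟶ CommRingCat.of (B ⧸ Ideal.span {t}) := CommRingCat.ofHom ψ.toRingHom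
    let mk' : CommRingCat.of B ⟶ CommRingCat.of (B ⧸ Ideal.span {t}) :=
      CommRingCat.ofHom (Ideal.Quotient.mk (Ideal.span {t}))
    have hψ' : f.stalkMap x₀ ≫ ψ' = CommRingCat.ofHom (algebraMap R B) ≫ mk' := by
      ext r
      exact ψ.commutes r
    obtain ⟨γ, hγ1, hγ2⟩ := H B t htm' htm ht0 β (e₁.comp (Ideal.Quotient.mk (Ideal.span {t}))) e₁ rfl
      (he₁s.comp Ideal.Quotient.mk_surjective) (Spec.map ψ' ≫ I.fromSpecStalk x₀)
      (by
        rw [Category.assoc, ← Scheme.SpecMap_stalkMap_fromSpecStalk, ← Category.assoc,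
          ← Spec.map_comp, hψ', Spec.map_comp, Category.assoc])
      (by
        rw [← Category.assoc, ← Spec.map_comp]
        have : ψ' ≫ CommRingCat.ofHom e₁ = a := by
          ext c
          exact he₁ c
        rw [this, ha])
    have hγx : γ (closedPoint B) = x₀ := by
      rw [← Groth.Agent.S1350.closedPoint_eq (Ideal.Quotient.mk (Ideal.span {t}))
        Ideal.Quotient.mk_surjective]
      have h1 := Groth.Agent.S1350.comp_apply_eq _ _ _ hγ2 (closedPoint (B ⧸ Ideal.span {t}))
      refine h1.trans ?_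
      have h2 : (Spec.map ψ') (closedPoint (B ⧸ Ideal.span {t})) = closedPoint C := by
        have : IsLocalHom ψ'.hom := ‹IsLocalHom ψ.toRingHom›
        exact IsLocalRing.comap_closedPoint ψ'.hom
      show I.fromSpecStalk x₀ ((Spec.map ψ') (closedPoint (B ⧸ Ideal.span {t}))) = x₀
      rw [h2]
      exact Scheme.fromSpecStalk_closedPoint
    obtain ⟨g, -, hg⟩ := Groth.Agent.S1350.exists_stalk_hom γ x₀ hγx
    have hg1 : f.stalkMap x₀ ≫ g = CommRingCat.ofHom (algebraMap R B) := by
      apply Spec.map_injective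
      rw [← cancel_mono ((Spec (CommRingCat.of A)).fromSpecStalk (f x₀)), Spec.map_comp,
        Category.assoc, Scheme.SpecMap_stalkMap_fromSpecStalk, ← Category.assoc, hg, hγ1]
    have hg2 : g ≫ mk' = ψ' := by
      apply Spec.map_injective
      rw [← cancel_mono (I.fromSpecStalk x₀), Spec.map_comp, Category.assoc, hg]
      exact hγ2
    refine ⟨{ g.hom with commutes' := fun r => congr($(hg1).hom r) }, ?_⟩
    ext c
    exact congr($(hg2).hom c)
  rw [Groth.Agent.S4537.result] at key
  intro D _ _ J hJ _ u hu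
  exact key D J hJ ⟨1, by simp⟩ u hu

end K50.SmCrit
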