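import Groth.Agent.BSB.K50.IsoRep
import Groth.Agent.BSB.K50.SmCrit
import Groth.Agent.Deform.K679.ArtIso

/-!
# Infinitesimal lifting for the scheme of isomorphisms when `Ext¹(Ω, O) = 0` on the closed fibre
-/

set_option autoImplicit false
set_option linter.unusedSectionVars false
set_option linter.style.haveILetI false
universe u

open CategoryTheory CategoryTheory.Limits AlgebraicGeometry

namespace K50.IsoRep

open K679.ArtSmall K679

/-- Pull back a family of isomorphisms. -/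
noncomputable def Fam.pull {X Y S I T : Scheme.{u}} {gX : X ⟶ S} {gY : Y ⟶ S} {fI : I ⟶ S}
    (U : Fam gX gY fI) (a : T ⟶ I) (t : T ⟶ S) (ht : a ≫ fI = t) : Fam gX gY t where
  W := pullback U.r a
  p := pullback.fst U.r a ≫ U.p
  q := pullback.fst U.r a ≫ U.q
  r := pullback.snd U.r a
  hp := by
    have h := (IsPullback.of_hasPullback U.r a).paste_horiz U.hp
    rwa [ht] at h
  hq := by
    have h := (IsPullback.of_hasPullback U.r a).paste_horiz U.hq
    rwa [ht] at h

theorem Fam.cls_pull {X Y S I T : Scheme.{u}} {gX : X ⟶ S} {gY : Y ⟶ S} {fI : I ⟶ S}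
    (U : Fam gX gY fI) (a : T ⟶ I) (t : T ⟶ S) (ht : a ≫ fI = t) :
    Cls gX gY U (U.pull a t ht) a :=
  ⟨pullback.fst U.r a, IsPullback.of_hasPullback U.r a, rfl, rfl⟩

theorem exists_lift {X Y S : Scheme.{u}} (gX : X ⟶ S) (gY : Y ⟶ S) [Smooth gX] [Smooth gY]
    [IsSeparated gX] {I : Scheme.{u}} (fI : I ⟶ S) (U : Fam gX gY fI) (hR : Rep gX gY fI U)
    {k : Type u} [Field k] {X0 : Scheme.{u}} (p0 : X0 ⟶ Spec (CommRingCat.of k))
    (s : Spec (CommRingCat.of k) ⟶ S) (i : X0 ⟶ X) (hi : IsPullback i p0 gX s)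
    [HasExt.{u} X0.Modules]
    (h1 : Subsingleton (Abelian.Ext.{u} (Omega.sheaf p0) (Coh.structureModule X0) 1))
    (B : Type u) [CommRing B] [IsLocalRing B] [IsArtinianRing B] (t : B)
    (ht : t ∈ IsLocalRing.maximalIdeal B) (htm : ∀ a ∈ IsLocalRing.maximalIdeal B, a * t = 0)
    (ht0 : t ≠ 0) (β : Spec (CommRingCat.of B) ⟶ S) (e : B →+* k)
    (e₁ : B ⧸ Ideal.span {t} →+* k) (he₁ : e₁.comp (Ideal.Quotient.mk (Ideal.span {t})) = e)
    (he : Function.Surjective e) (α : Spec (CommRingCat.of (B ⧸ Ideal.span {t})) ⟶ I)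
    (hα : α ≫ fI = Spec.map (CommRingCat.ofHom (Ideal.Quotient.mk (Ideal.span {t}))) ≫ β)
    (hαs : Spec.map (CommRingCat.ofHom e₁) ≫ α ≫ fI = s) :
    ∃ γ : Spec (CommRingCat.of B) ⟶ I, γ ≫ fI = β ∧
      Spec.map (CommRingCat.ofHom (Ideal.Quotient.mk (Ideal.span {t}))) ≫ γ = α := by
  let φ : B →+* B ⧸ Ideal.span {t} := Ideal.Quotient.mk (Ideal.span {t})
  change α ≫ fI = Spec.map (CommRingCat.ofHom φ) ≫ β at hα
  change e₁.comp φ = e at he₁
  have hφ : Function.Surjective φ := Ideal.Quotient.mk_surjective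
  have hsm : Smooth p0 := MorphismProperty.of_isPullback (P := @Smooth) hi inferInstance
  have hsp : IsSeparated p0 := MorphismProperty.of_isPullback (P := @IsSeparated) hi inferInstance
  let V := U.pull α _ hα
  have hs' : s = Spec.map (CommRingCat.ofHom e₁) ≫ Spec.map (CommRingCat.ofHom φ) ≫ β := by
    rw [← hαs, hα]
  have hV₁ : IsPullback (V.hp.lift i (p0 ≫ Spec.map (CommRingCat.ofHom e₁))
      (by rw [hi.w, hs', Category.assoc])) p0 V.r (Spec.map (CommRingCat.ofHom e₁)) := by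
    refine IsPullback.of_right (h₁₂ := V.p) (v₁₃ := gX)
      (h₂₂ := Spec.map (CommRingCat.ofHom φ) ≫ β) ?_ ?_ V.hp
    · rw [V.hp.lift_fst, ← hs']
      exact hi
    · rw [V.hp.lift_snd]
  have hs₀ : Spec.map (CommRingCat.ofHom e₁) ≫ Spec.map (CommRingCat.ofHom φ) =
      Spec.map (CommRingCat.ofHom e) := by
    rw [← Spec.map_comp, ← he₁]
    rfl
  have hcl₀ : IsClosedImmersion (Spec.map (CommRingCat.ofHom e)) :=
    IsClosedImmersion.spec_of_surjective _ he
  have hcl₁ : IsClosedImmersion (Spec.map (CommRingCat.ofHom φ)) :=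
    IsClosedImmersion.spec_of_surjective _ hφ
  have htt : t * t = 0 := htm t ht
  have hk : (RingHom.ker φ) ^ 2 = ⊥ := by
    rw [Ideal.mk_ker, Ideal.span_singleton_pow, pow_two, htt, Ideal.span_singleton_eq_bot]
  have hsur : Surjective (Spec.map (CommRingCat.ofHom φ)) :=
    (K204.ArtThick.isFiniteOrderThickening_spec φ hφ ⟨2, hk⟩).1.2
  have hse₁ : Function.Surjective e₁ := fun c => by
    obtain ⟨a, rfl⟩ := he c
    exact ⟨φ a, congr($he₁ a)⟩
  have hn := isNilpotent_ker e he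
  have hne : IsNilpotent (RingHom.ker e₁) := by
    obtain ⟨n, hn⟩ := hn
    refine ⟨n, ?_⟩
    have h1 : RingHom.ker e₁ = (RingHom.ker e).map φ := by
      have : RingHom.ker e = (RingHom.ker e₁).comap φ := by
        rw [← he₁]
        rfl
      rw [this, Ideal.map_comap_of_surjective φ hφ]
    rw [h1, ← Ideal.map_pow, hn]
    exact Ideal.map_bot
  have hth₁ := K204.ArtThick.isFiniteOrderThickening_spec e₁ hse₁ hne
  have hsi : Surjective (V.hp.lift i (p0 ≫ Spec.map (CommRingCat.ofHom e₁))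
      (by rw [hi.w, hs', Category.assoc])) :=
    MorphismProperty.of_isPullback hV₁.flip hth₁.1.2
  have hsq := hs₀.subst (motive := fun m => IsPullback _ p0 _ m)
    (isPullback_comp_mono hV₁ (Spec.map (CommRingCat.ofHom φ)))
  -- the two lifts
  have hj : ∀ {Z : Scheme.{u}} {gZ : Z ⟶ S} {z : V.W ⟶ Z}
      (hz : IsPullback z V.r gZ (Spec.map (CommRingCat.ofHom φ) ≫ β)),
      IsPullback (pullback.lift z (V.r ≫ Spec.map (CommRingCat.ofHom φ))
        (by rw [hz.w, Category.assoc]) : V.W ⟶ pullback gZ β) V.r (pullback.snd gZ β)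
        (Spec.map (CommRingCat.ofHom φ)) := by
    intro Z gZ z hz
    refine IsPullback.of_right (h₁₂ := pullback.fst gZ β) (v₁₃ := gZ) (h₂₂ := β) ?_ ?_
      (IsPullback.of_hasPullback _ _)
    · rw [pullback.lift_fst]
      exact hz
    · rw [pullback.lift_snd]
  obtain ⟨Φ, hΦ1, hΦ2⟩ := SmallLift.exists_iso φ hφ hsq (tt := g B t)
    (by rw [← map_mul, htt, map_zero])
    (ker_app φ t (Ideal.mk_ker)) (fun c => by
      obtain ⟨a, rfl⟩ := (g B).surjective c
      rw [app_g_eq_zero, eq_zero_iff e he t htm ht0, ← map_mul, map_eq_zero_iff _ (g B).injective])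
    hk (Groth.Agent.S5005.result p0)
    (Groth.Agent.Lefpen.H721.OmegaSec.isFinLocFree_omega p0) h1 _ _ _ _ (hj V.hp) (hj V.hq)
  let V' : Fam gX gY β :=
    { W := pullback gX β
      p := pullback.fst gX β
      q := Φ.hom ≫ pullback.fst gY β
      r := pullback.snd gX β
      hp := IsPullback.of_hasPullback _ _
      hq := by
        have h8 : IsPullback Φ.hom (pullback.snd gX β) (pullback.snd gY β) (𝟙 _) :=
          IsPullback.of_horiz_isIso ⟨by rw [Category.comp_id, hΦ2]⟩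
        have h9 := h8.paste_horiz (IsPullback.of_hasPullback gY β)
        rwa [Category.id_comp] at h9 }
  have hNB : IsLocallyNoetherian (Spec (CommRingCat.of B)) := inferInstance
  have hNB' : IsLocallyNoetherian (Spec (CommRingCat.of (B ⧸ Ideal.span {t}))) := inferInstance
  obtain ⟨γ, hγ, w, hw, hwp, hwq⟩ := hR.exi β V'
  refine ⟨γ, hγ, ?_⟩
  refine hR.uni (Spec.map (CommRingCat.ofHom φ) ≫ β) V _ _ (by rw [Category.assoc, hγ]) hα ?_
    (U.cls_pull α _ hα)
  refine ⟨(pullback.lift V.p (V.r ≫ Spec.map (CommRingCat.ofHom φ))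
        (by rw [V.hp.w, Category.assoc]) : V.W ⟶ pullback gX β) ≫ w, ?_, ?_, ?_⟩
  · exact (hj V.hp).paste_horiz hw
  · rw [Category.assoc, hwp]
    exact pullback.lift_fst _ _ _
  · rw [Category.assoc, hwq]
    show _ ≫ Φ.hom ≫ pullback.fst gY β = _
    rw [← Category.assoc, hΦ1]
    exact pullback.lift_fst _ _ _

end K50.IsoRep
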