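import Groth.Agent.BSB.K50.InfLift
import Groth.Agent.BSB.K50.ExtSplit
import Groth.Agent.BSB.K50.EqSecSch
import Groth.Agent.S1496
import Groth.Agent.Ega2.AmpleUnit
import Groth.Agent.VBPn.K697.ExtTw

/-!
# Group actions on the scheme of isomorphisms
-/

set_option autoImplicit false
set_option linter.unusedSectionVars false
set_option linter.style.haveILetI false
universe u

open CategoryTheory CategoryTheory.Limits AlgebraicGeometry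

namespace K50.IsoRep

section act

variable {X Y S : Scheme.{u}} {gX : X ⟶ S} {gY : Y ⟶ S}

/-- Twist a family of isomorphisms by automorphisms. -/
noncomputable def Fam.tw {T : Scheme.{u}} {t : T ⟶ S} (V : Fam gX gY t) (a : X ⟶ X) (b : Y ⟶ Y)
    (c : S ⟶ S) [IsIso a] [IsIso b] [IsIso c] (ha : a ≫ gX = gX ≫ c) (hb : b ≫ gY = gY ≫ c) :
    Fam gX gY (t ≫ c) where
  W := V.W
  p := V.p ≫ a
  q := V.q ≫ b
  r := V.r
  hp := V.hp.paste_horiz (IsPullback.of_horiz_isIso ⟨ha⟩)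
  hq := V.hq.paste_horiz (IsPullback.of_horiz_isIso ⟨hb⟩)

variable {I : Scheme.{u}} {fI : I ⟶ S} {G : Type u} [Group G]

theorem isIso_act {X : Scheme.{u}} (σ : G → (X ⟶ X)) (h1 : σ 1 = 𝟙 X)
    (hm : ∀ g h, σ (g * h) = σ g ≫ σ h) (g : G) : IsIso (σ g) :=
  ⟨σ g⁻¹, by rw [← hm, mul_inv_cancel, h1], by rw [← hm, inv_mul_cancel, h1]⟩

theorem exists_action [IsLocallyNoetherian I] (U : Fam gX gY fI) (hR : Rep gX gY fI U)
    (s : G → (S ⟶ S)) (hs1 : s 1 = 𝟙 S) (hsm : ∀ g h, s (g * h) = s g ≫ s h)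
    (σ : G → (X ⟶ X)) (hσ1 : σ 1 = 𝟙 X) (hσm : ∀ g h, σ (g * h) = σ g ≫ σ h)
    (hσf : ∀ g, σ g ≫ gX = gX ≫ s g)
    (τ : G → (Y ⟶ Y)) (hτ1 : τ 1 = 𝟙 Y) (hτm : ∀ g h, τ (g * h) = τ g ≫ τ h)
    (hτf : ∀ g, τ g ≫ gY = gY ≫ s g) :
    ∃ (ρ : G → (I ⟶ I)) (w : G → (U.W ⟶ U.W)), ρ 1 = 𝟙 I ∧ (∀ g h, ρ (g * h) = ρ g ≫ ρ h) ∧
      (∀ g, ρ g ≫ fI = fI ≫ s g) ∧ (∀ g, IsPullback (w g) U.r U.r (ρ g)) ∧
      (∀ g, w g ≫ U.p = U.p ≫ σ g) ∧ (∀ g, w g ≫ U.q = U.q ≫ τ g) := by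
  have is := isIso_act s hs1 hsm
  have iσ := isIso_act σ hσ1 hσm
  have iτ := isIso_act τ hτ1 hτm
  have H : ∀ g, ∃ (ρ : I ⟶ I) (w : U.W ⟶ U.W), ρ ≫ fI = fI ≫ s g ∧ IsPullback w U.r U.r ρ ∧
      w ≫ U.p = U.p ≫ σ g ∧ w ≫ U.q = U.q ≫ τ g := fun g => by
    obtain ⟨ρ, hρ, w, hw, hwp, hwq⟩ := hR.exi (fI ≫ s g)
      (U.tw (σ g) (τ g) (s g) (hσf g) (hτf g))
    exact ⟨ρ, w, hρ, hw, hwp, hwq⟩
  choose ρ w hρ hw hwp hwq using H
  refine ⟨ρ, w, ?_, fun g h => ?_, hρ, hw, hwp, hwq⟩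
  · refine hR.uni (fI ≫ s 1) (U.tw (σ 1) (τ 1) (s 1) (hσf 1) (hτf 1)) _ _ (hρ 1)
      (by rw [hs1, Category.id_comp, Category.comp_id]) ⟨w 1, hw 1, hwp 1, hwq 1⟩
      ⟨𝟙 U.W, (IsPullback.of_horiz_isIso ⟨by rw [Category.id_comp, Category.comp_id]⟩ :
        IsPullback (𝟙 U.W) U.r U.r (𝟙 I)), ?_, ?_⟩
    · show 𝟙 U.W ≫ U.p = U.p ≫ σ 1
      rw [hσ1, Category.id_comp, Category.comp_id]
    · show 𝟙 U.W ≫ U.q = U.q ≫ τ 1
      rw [hτ1, Category.id_comp, Category.comp_id]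
  · refine hR.uni (fI ≫ s (g * h)) (U.tw (σ (g * h)) (τ (g * h)) (s (g * h)) (hσf _) (hτf _)) _ _
      (hρ _) (by rw [Category.assoc, hρ, ← Category.assoc, hρ, Category.assoc, hsm])
      ⟨w _, hw _, hwp _, hwq _⟩ ⟨w g ≫ w h, ?_, ?_, ?_⟩
    · exact (hw g).paste_horiz (hw h)
    · show (w g ≫ w h) ≫ U.p = U.p ≫ σ (g * h)
      rw [Category.assoc, hwp, ← Category.assoc, hwp, Category.assoc, hσm]
    · show (w g ≫ w h) ≫ U.q = U.q ≫ τ (g * h)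
      rw [Category.assoc, hwq, ← Category.assoc, hwq, Category.assoc, hτm]

/-- An equivariant section of the scheme of isomorphisms is an equivariant isomorphism. -/
theorem exists_iso_of_section (U : Fam gX gY fI)
    (s : G → (S ⟶ S)) (σ : G → (X ⟶ X)) (τ : G → (Y ⟶ Y))
    (ρ : G → (I ⟶ I)) (w : G → (U.W ⟶ U.W)) 
    (hw : ∀ g, IsPullback (w g) U.r U.r (ρ g)) (hwp : ∀ g, w g ≫ U.p = U.p ≫ σ g)
    (hwq : ∀ g, w g ≫ U.q = U.q ≫ τ g)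
    (a : S ⟶ I) (ha : a ≫ fI = 𝟙 S) (hag : ∀ g, s g ≫ a = a ≫ ρ g) :
    ∃ Φ : X ≅ Y, Φ.hom ≫ gY = gX ∧ (∀ g, σ g ≫ Φ.hom = Φ.hom ≫ τ g) ∧
      ∀ {X0 S0 : Scheme.{u}} (p0 : X0 ⟶ S0) (z : S0 ⟶ S) (w0 : X0 ⟶ U.W)
        (_ : w0 ≫ U.r = p0 ≫ z ≫ a), (w0 ≫ U.p) ≫ Φ.hom = w0 ≫ U.q := by
  obtain ⟨V, c, hc, hcp, hcq⟩ : ∃ V : Fam gX gY (𝟙 S), Cls gX gY U V a :=
    ⟨U.pull a (𝟙 S) ha, U.cls_pull a (𝟙 S) ha⟩
  have hp : IsIso V.p := V.hp.isIso_fst_of_isIso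
  have hq : IsIso V.q := V.hq.isIso_fst_of_isIso
  have hV : V.p ≫ gX = V.q ≫ gY := V.hp.w.trans V.hq.w.symm
  refine ⟨(asIso V.p).symm ≪≫ asIso V.q, ?_, fun g => ?_, ?_⟩
  · rw [Iso.trans_hom, Iso.symm_hom, asIso_inv, asIso_hom, Category.assoc, IsIso.inv_comp_eq, hV]
  · let v : V.W ⟶ V.W := hc.lift (c ≫ w g) (V.r ≫ s g) (by
      rw [Category.assoc, (hw g).w, ← Category.assoc, hc.w, Category.assoc,
        Category.assoc, hag])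
    have hv : v ≫ c = c ≫ w g := hc.lift_fst _ _ _
    have hvp : v ≫ V.p = V.p ≫ σ g := by
      rw [← hcp, ← Category.assoc, hv, Category.assoc, hwp, Category.assoc]
    have hvq : v ≫ V.q = V.q ≫ τ g := by
      rw [← hcq, ← Category.assoc, hv, Category.assoc, hwq, Category.assoc]
    rw [Iso.trans_hom, Iso.symm_hom, asIso_inv, asIso_hom, Category.assoc, ← hvq,
      ← Category.assoc, ← Category.assoc]
    congr 1
    rw [IsIso.comp_inv_eq, Category.assoc, hvp, IsIso.inv_hom_id_assoc]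
  · intro X0 S0 p0 z w0 h0
    let v : X0 ⟶ V.W := hc.lift w0 (p0 ≫ z) (by rw [h0, Category.assoc])
    have hv : v ≫ c = w0 := hc.lift_fst _ _ _
    have hvp : v ≫ V.p = w0 ≫ U.p := by
      rw [← hcp, ← Category.assoc, hv]
    have hvq : v ≫ V.q = w0 ≫ U.q := by
      rw [← hcq, ← Category.assoc, hv]
    rw [← hvp, ← hvq, Iso.trans_hom, Iso.symm_hom, asIso_inv, asIso_hom, Category.assoc,
      IsIso.hom_inv_id_assoc]

end act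

theorem smoothLocus_comp_isIso {X Y Z : Scheme.{u}} (f : X ⟶ Y) (e : Y ⟶ Z)
    [LocallyOfFinitePresentation f] [IsIso e] : (f ≫ e).smoothLocus = f.smoothLocus := by
  ext x
  refine Iff.trans ?_ (RingHom.FormallySmooth.respectsIso.cancel_left_isIso (e.stalkMap (f x))
    (f.stalkMap x))
  rw [← CommRingCat.hom_comp, ← Scheme.Hom.stalkMap_comp]
  rfl

theorem isHProjective {A : Type u} [CommRing A] {X : Scheme.{u}} (f : X ⟶ Spec (CommRingCat.of A))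
    [IsProper f] (L : X.Modules) (hL : RelAmple.IsRelAmple f L) : RelProj.IsHProjective f := by
  have h := Groth.Agent.S1496.result
    ⟨_, Groth.Agent.Ega2.Weight.isAmple_structureModule (Spec (CommRingCat.of A))⟩ f
  exact h.1.2 (h.2.2 ⟨inferInstance, L, hL⟩)

end K50.IsoRep
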