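import Groth.Agent.S17087
import Groth.Agent.S3218
import Groth.Agent.S9692
import Groth.Agent.Mor.K386.HQP

/-!
# Representability of the functor of isomorphisms of flat projective schemes
-/

set_option autoImplicit false
set_option linter.unusedSectionVars false
set_option linter.style.haveILetI false
universe u

open CategoryTheory CategoryTheory.Limits AlgebraicGeometry

namespace K50.IsoRep

open Groth.Agent.Fga.HilbClosed Groth.Agent.Fga.RelCart

variable {X Y S : Scheme.{u}}

/-- A family of isomorphisms from `X` to `Y` over `t : T ⟶ S`: a scheme `W` which is at the same time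
the base change of `X` and of `Y`. -/
structure Fam (gX : X ⟶ S) (gY : Y ⟶ S) {T : Scheme.{u}} (t : T ⟶ S) where
  /-- the total space -/
  W : Scheme.{u}
  /-- the map to `X` -/
  p : W ⟶ X
  /-- the map to `Y` -/
  q : W ⟶ Y
  /-- the structure map -/
  r : W ⟶ T
  hp : IsPullback p r gX t
  hq : IsPullback q r gY t

variable (gX : X ⟶ S) (gY : Y ⟶ S)

section Corr

variable {H : Scheme.{u}} {h : H ⟶ S} {W : Scheme.{u}} (P : W ⟶ X) (R : W ⟶ H) (hPR : P ≫ gX = R ≫ h)

/-- The locus of the base where a correspondence is the graph over `X`. -/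
noncomputable def loc : H.Opens :=
  K921.IsoLocus.locus (pullback.lift P R hPR : W ⟶ pullback gX h) (pullback.snd gX h)

theorem cart_iff [IsLocallyNoetherian H] [IsProper R] [Flat R] [IsProper gX]
    {T W' : Scheme.{u}} {g : T ⟶ H} {w : W' ⟶ W} {r : W' ⟶ T} (hc : IsPullback w r R g) :
    IsPullback (w ≫ P) r gX (g ≫ h) ↔ Set.range g ⊆ (loc gX P R hPR : Set H) := by
  have e1 : (w ≫ P) ≫ gX = r ≫ g ≫ h := by
    rw [Category.assoc, hPR, ← Category.assoc, hc.w, Category.assoc]
  let pY : pullback gX (g ≫ h) ⟶ pullback gX h :=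
    pullback.lift (pullback.fst gX (g ≫ h)) (pullback.snd gX (g ≫ h) ≫ g)
      (pullback.condition.trans (Category.assoc _ _ _).symm)
  have hpY1 : pY ≫ pullback.fst gX h = pullback.fst gX (g ≫ h) := pullback.lift_fst _ _ _
  have hpY2 : pY ≫ pullback.snd gX h = pullback.snd gX (g ≫ h) ≫ g := pullback.lift_snd _ _ _
  have H2 : IsPullback pY (pullback.snd gX (g ≫ h)) (pullback.snd gX h) g := by
    refine IsPullback.of_right (h₁₂ := pullback.fst gX h) (v₁₃ := gX) (h₂₂ := h) ?_ hpY2
      (IsPullback.of_hasPullback _ _)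
    rw [hpY1]
    exact IsPullback.of_hasPullback _ _
  let f' : W' ⟶ pullback gX (g ≫ h) := pullback.lift (w ≫ P) r e1
  have hf'1 : f' ≫ pullback.fst gX (g ≫ h) = w ≫ P := pullback.lift_fst _ _ _
  have hf'2 : f' ≫ pullback.snd gX (g ≫ h) = r := pullback.lift_snd _ _ _
  let A : W ⟶ pullback gX h := pullback.lift P R hPR
  have hA1 : A ≫ pullback.fst gX h = P := pullback.lift_fst _ _ _
  have hA2 : A ≫ pullback.snd gX h = R := pullback.lift_snd _ _ _
  have H1 : IsPullback w f' A pY := by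
    refine IsPullback.of_bot (h₃₁ := g) (v₂₁ := pullback.snd gX (g ≫ h)) (v₂₂ := pullback.snd gX h)
      ?_ ?_ H2
    · rw [hf'2, hA2]
      exact hc
    · apply pullback.hom_ext
      · rw [Category.assoc, Category.assoc, hA1, hpY1, hf'1]
      · rw [Category.assoc, Category.assoc, hA2, hpY2, ← Category.assoc, hf'2, hc.w]
  refine Iff.trans ?_ (K921.IsoLocus.isIso_baseChange_iff A R
    (pullback.snd gX h) hA2 H1 H2)
  constructor
  · intro hh
    have : f' = hh.isoPullback.hom := by
      apply pullback.hom_ext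
      · rw [hf'1, IsPullback.isoPullback_hom_fst]
      · rw [hf'2, IsPullback.isoPullback_hom_snd]
    rw [this]
    infer_instance
  · intro hh
    have h3 : IsPullback f' r (pullback.snd gX (g ≫ h)) (𝟙 _) :=
      IsPullback.of_horiz_isIso ⟨by rw [hf'2, Category.comp_id]⟩
    have h4 := h3.paste_horiz (IsPullback.of_hasPullback gX (g ≫ h))
    rw [Category.id_comp, hf'1] at h4
    exact h4

end Corr

section Hilb

variable [IsProper gX] [Flat gX] [IsProper gY]

/-- The embedding of a family of isomorphisms. -/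
noncomputable def emb {T : Over S} (V : Fam gX gY T.hom) :
    V.W ⟶ PicF.XT (pullback.fst gX gY ≫ gX) T :=
  pullback.lift (pullback.lift V.p V.q (V.hp.w.trans V.hq.w.symm)) V.r (by
    rw [← Category.assoc, pullback.lift_fst]
    exact V.hp.w)

variable {gX gY} in
theorem emb_proj {T : Over S} (V : Fam gX gY T.hom) :
    emb gX gY V ≫ PicF.XTproj (pullback.fst gX gY ≫ gX) T = V.r := pullback.lift_snd _ _ _

variable {gX gY} in
theorem emb_p {T : Over S} (V : Fam gX gY T.hom) :
    emb gX gY V ≫ pullback.fst _ _ ≫ pullback.fst gX gY = V.p := by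
  rw [emb, pullback.lift_fst_assoc, pullback.lift_fst]

variable {gX gY} in
theorem emb_q {T : Over S} (V : Fam gX gY T.hom) :
    emb gX gY V ≫ pullback.fst _ _ ≫ pullback.snd gX gY = V.q := by
  rw [emb, pullback.lift_fst_assoc, pullback.lift_snd]

instance isClosedImmersion_emb {T : Over S} (V : Fam gX gY T.hom) :
    IsClosedImmersion (emb gX gY V) := by
  have h1 : IsSeparated (Groth.Agent.S17087.r gX gY T) :=
    MorphismProperty.of_isPullback (P := @IsSeparated) (Groth.Agent.S17087.isPullback_r gX gY T)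
      inferInstance
  have h2 : IsIso (emb gX gY V ≫ Groth.Agent.S17087.r gX gY T) := by
    have : emb gX gY V ≫ Groth.Agent.S17087.r gX gY T = V.hp.flip.isoPullback.hom := by
      apply pullback.hom_ext
      · rw [Category.assoc, Groth.Agent.S17087.r_fst, IsPullback.isoPullback_hom_fst]
        exact emb_proj V
      · rw [Category.assoc, Groth.Agent.S17087.r_snd, IsPullback.isoPullback_hom_snd]
        exact emb_p V
    rw [this]
    infer_instance
  have h3 : IsClosedImmersion (emb gX gY V ≫ Groth.Agent.S17087.r gX gY T) := inferInstance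
  exact IsClosedImmersion.of_comp (emb gX gY V) (Groth.Agent.S17087.r gX gY T)

variable {gX gY} in
theorem mem_hilb {T : Over S} (V : Fam gX gY T.hom) :
    IsProper ((emb gX gY V).ker.subschemeι ≫ PicF.XTproj (pullback.fst gX gY ≫ gX) T) ∧
    Flat ((emb gX gY V).ker.subschemeι ≫ PicF.XTproj (pullback.fst gX gY ≫ gX) T) := by
  have h0 := isClosedImmersion_emb gX gY V
  have h1 : (emb gX gY V).toImage ≫ (emb gX gY V).ker.subschemeι = emb gX gY V :=
    (emb gX gY V).toImage_imageι
  have h2 : ∀ {Z W : Scheme.{u}} (d : Z ⟶ W) [IsClosedImmersion d], IsIso d.toImage :=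
      fun d _ => inferInstance
  have h3 : IsIso (emb gX gY V).toImage := h2 _
  have h4 : (emb gX gY V).ker.subschemeι ≫ PicF.XTproj (pullback.fst gX gY ≫ gX) T =
      @inv _ _ _ _ _ h3 ≫ V.r := by
    rw [IsIso.eq_inv_comp, ← Category.assoc, h1, emb_proj]
  rw [h4]
  have h5 : IsProper V.r := MorphismProperty.of_isPullback (P := @IsProper) V.hp inferInstance
  have h6 : Flat V.r := MorphismProperty.of_isPullback (P := @Flat) V.hp inferInstance
  exact ⟨inferInstance, inferInstance⟩

/-- The correspondence attached to a closed subscheme. -/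
noncomputable def cP {H : Over S} (Z : FGA.HilbSet (pullback.fst gX gY ≫ gX) H) :
    Z.1.subscheme ⟶ X := Z.1.subschemeι ≫ pullback.fst _ _ ≫ pullback.fst gX gY

/-- The correspondence attached to a closed subscheme. -/
noncomputable def cQ {H : Over S} (Z : FGA.HilbSet (pullback.fst gX gY ≫ gX) H) :
    Z.1.subscheme ⟶ Y := Z.1.subschemeι ≫ pullback.fst _ _ ≫ pullback.snd gX gY

/-- The structure map. -/
noncomputable def cR {H : Over S} (Z : FGA.HilbSet (pullback.fst gX gY ≫ gX) H) :
    Z.1.subscheme ⟶ H.left := Z.1.subschemeι ≫ PicF.XTproj (pullback.fst gX gY ≫ gX) H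

variable {H : Over S} (Z : FGA.HilbSet (pullback.fst gX gY ≫ gX) H)

theorem wP : cP gX gY Z ≫ gX = cR gX gY Z ≫ H.hom := by
  have h1 : pullback.fst (pullback.fst gX gY ≫ gX) H.hom ≫ pullback.fst gX gY ≫ gX =
      PicF.XTproj (pullback.fst gX gY ≫ gX) H ≫ H.hom := pullback.condition
  simp only [cP, cR, Category.assoc]
  exact congrArg (Z.1.subschemeι ≫ ·) h1

theorem wQ : cQ gX gY Z ≫ gY = cR gX gY Z ≫ H.hom := by
  have h1 : pullback.fst (pullback.fst gX gY ≫ gX) H.hom ≫ pullback.snd gX gY ≫ gY =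
      PicF.XTproj (pullback.fst gX gY ≫ gX) H ≫ H.hom :=
    Eq.trans (congrArg (pullback.fst (pullback.fst gX gY ≫ gX) H.hom ≫ ·)
      pullback.condition.symm) pullback.condition
  simp only [cQ, cR, Category.assoc]
  exact congrArg (Z.1.subschemeι ≫ ·) h1

theorem eq_ker_iff {T : Over S} (V : Fam gX gY T.hom) (g : T ⟶ H) :
    FGA.hilbPull (pullback.fst gX gY ≫ gX) g Z.1 = (emb gX gY V).ker ↔
      ∃ w : V.W ⟶ Z.1.subscheme, IsPullback w V.r (cR gX gY Z) g.left ∧ w ≫ cP gX gY Z = V.p ∧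
        w ≫ cQ gX gY Z = V.q := by
  have hXT := isPullback_XTmap (pullback.fst gX gY ≫ gX) g
  constructor
  · intro hE
    have h0 := isClosedImmersion_emb gX gY V
    have h1 : (emb gX gY V).toImage ≫ (emb gX gY V).ker.subschemeι = emb gX gY V :=
      (emb gX gY V).toImage_imageι
    have h2 : ∀ {Z W : Scheme.{u}} (d : Z ⟶ W) [IsClosedImmersion d], IsIso d.toImage :=
        fun d _ => inferInstance
    have h3 : IsIso (emb gX gY V).toImage := h2 _
    rw [hilbPull_eq_comap] at hE
    have h4 := isPullback_comap Z.1 (PicF.XTmap (pullback.fst gX gY ≫ gX) g)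
    obtain ⟨a, ha⟩ : ∃ a : (emb gX gY V).ker.subscheme ⟶ Z.1.subscheme,
        IsPullback (emb gX gY V).ker.subschemeι a
          (PicF.XTmap (pullback.fst gX gY ≫ gX) g) Z.1.subschemeι := by
      rw [← hE]
      exact ⟨_, h4⟩
    have h5 : IsPullback ((emb gX gY V).toImage ≫ a) (emb gX gY V) Z.1.subschemeι
        (PicF.XTmap (pullback.fst gX gY ≫ gX) g) := by
      have h6 : IsPullback (emb gX gY V).toImage (emb gX gY V) (emb gX gY V).ker.subschemeι (𝟙 _) :=
        IsPullback.of_horiz_isIso ⟨by rw [h1, Category.comp_id]⟩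
      have h7 := h6.paste_horiz ha.flip
      rwa [Category.id_comp] at h7
    have h8 := h5.paste_vert hXT
    rw [emb_proj] at h8
    refine ⟨(emb gX gY V).toImage ≫ a, h8, ?_, ?_⟩
    · rw [cP, ← Category.assoc, h5.w, Category.assoc, ← Category.assoc (PicF.XTmap _ _),
        FGA.XTmap_fst]
      exact emb_p V
    · rw [cQ, ← Category.assoc, h5.w, Category.assoc, ← Category.assoc (PicF.XTmap _ _),
        FGA.XTmap_fst]
      exact emb_q V
  · rintro ⟨w, hw, hwp, hwq⟩
    have h5 : IsPullback w (emb gX gY V) Z.1.subschemeι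
        (PicF.XTmap (pullback.fst gX gY ≫ gX) g) := by
      refine IsPullback.of_bot (v₂₁ := PicF.XTproj (pullback.fst gX gY ≫ gX) T) (h₃₁ := g.left)
        (v₂₂ := PicF.XTproj (pullback.fst gX gY ≫ gX) H) ?_ ?_ hXT
      · rw [emb_proj]
        exact hw
      · apply pullback.hom_ext
        · rw [Category.assoc, Category.assoc, FGA.XTmap_fst]
          apply pullback.hom_ext
          · rw [Category.assoc, Category.assoc, Category.assoc, emb_p]
            exact hwp
          · rw [Category.assoc, Category.assoc, Category.assoc, emb_q]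
            exact hwq
        · rw [Category.assoc, Category.assoc, hXT.w, ← Category.assoc (emb gX gY V), emb_proj]
          exact hw.w
    rw [hilbPull_eq_comap, ker_of_isPullback h5, Scheme.IdealSheafData.ker_subschemeι]

end Hilb

/-- `g` classifies the family `V` by means of the family `U`. -/
def Cls {I T : Scheme.{u}} {fI : I ⟶ S} {t : T ⟶ S} (U : Fam gX gY fI) (V : Fam gX gY t)
    (g : T ⟶ I) : Prop :=
  ∃ w : V.W ⟶ U.W, IsPullback w V.r U.r g ∧ w ≫ U.p = V.p ∧ w ≫ U.q = V.q

/-- `(I, U)` represents the functor of isomorphisms on locally Noetherian schemes. -/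
structure Rep {I : Scheme.{u}} (fI : I ⟶ S) (U : Fam gX gY fI) : Prop where
  exi : ∀ {T : Scheme.{u}} [IsLocallyNoetherian T] (t : T ⟶ S) (V : Fam gX gY t),
    ∃ g : T ⟶ I, g ≫ fI = t ∧ Cls gX gY U V g
  uni : ∀ {T : Scheme.{u}} [IsLocallyNoetherian T] (t : T ⟶ S) (V : Fam gX gY t) (g g' : T ⟶ I),
    g ≫ fI = t → g' ≫ fI = t → Cls gX gY U V g → Cls gX gY U V g' → g = g'

theorem exists_rep_of_hilb [IsProper gX] [Flat gX] [IsProper gY]
    (H : Over S) (Z : FGA.HilbSet (pullback.fst gX gY ≫ gX) H)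
    (hH : FGA.HilbRepresentedBy (pullback.fst gX gY ≫ gX) H Z) [LocallyOfFiniteType H.hom] :
    ∃ (I : Scheme.{u}) (fI : I ⟶ S) (U : Fam gX gY fI), LocallyOfFiniteType fI ∧
      Rep gX gY fI U := by
  have hN := hH.1
  have hp : IsProper (cR gX gY Z) := Z.2.1
  have hfl : Flat (cR gX gY Z) := Z.2.2
  let UA := loc gX (cP gX gY Z) (cR gX gY Z) (wP gX gY Z)
  let UB := loc gY (cQ gX gY Z) (cR gX gY Z) (wQ gX gY Z)
  let O : H.left.Opens := UA ⊓ UB
  have hO : IsPullback (pullback.fst (cR gX gY Z) O.ι) (pullback.snd (cR gX gY Z) O.ι)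
    (cR gX gY Z) O.ι := IsPullback.of_hasPullback _ _
  have hOr : Set.range O.ι = (O : Set H.left) := by simp
  let U : Fam gX gY (O.ι ≫ H.hom) :=
    { W := pullback (cR gX gY Z) O.ι
      p := pullback.fst (cR gX gY Z) O.ι ≫ cP gX gY Z
      q := pullback.fst (cR gX gY Z) O.ι ≫ cQ gX gY Z
      r := pullback.snd (cR gX gY Z) O.ι
      hp := (cart_iff gX (cP gX gY Z) (cR gX gY Z) (wP gX gY Z) hO).2 (by
        rw [hOr]; exact fun x hx => hx.1)
      hq := (cart_iff gY (cQ gX gY Z) (cR gX gY Z) (wQ gX gY Z) hO).2 (by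
        rw [hOr]; exact fun x hx => hx.2) }
  refine ⟨O.toScheme, O.ι ≫ H.hom, U, inferInstance, ⟨?_, ?_⟩⟩
  · intro T _ t V
    let T' : Over S := Over.mk t
    let V' : Fam gX gY T'.hom := V
    have hT' : IsLocallyNoetherian T'.left := ‹IsLocallyNoetherian T›
    obtain ⟨g, hg, -⟩ := hH.2 T' ⟨(emb gX gY V').ker, mem_hilb V'⟩
    obtain ⟨w, hw, hwp, hwq⟩ := (eq_ker_iff gX gY Z V' g).1 hg
    have hgt : g.left ≫ H.hom = t := Over.w g
    have hA : Set.range g.left ⊆ (UA : Set H.left) := by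
      refine (cart_iff gX (cP gX gY Z) (cR gX gY Z) (wP gX gY Z) hw).1 ?_
      rw [hwp, hgt]
      exact V.hp
    have hB : Set.range g.left ⊆ (UB : Set H.left) := by
      refine (cart_iff gY (cQ gX gY Z) (cR gX gY Z) (wQ gX gY Z) hw).1 ?_
      rw [hwq, hgt]
      exact V.hq
    have hgO : Set.range g.left ⊆ Set.range O.ι := by
      rw [hOr]; exact fun x hx => ⟨hA hx, hB hx⟩
    let g₁ : T ⟶ O.toScheme := IsOpenImmersion.lift O.ι g.left hgO
    have hg₁ : g₁ ≫ O.ι = g.left := IsOpenImmersion.lift_fac _ _ _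
    refine ⟨g₁, by rw [← Category.assoc, hg₁, hgt], ?_⟩
    let w₁ : V.W ⟶ U.W := pullback.lift w (V.r ≫ g₁) (by rw [Category.assoc, hg₁]; exact hw.w)
    have hw1 : w₁ ≫ pullback.fst (cR gX gY Z) O.ι = w := pullback.lift_fst _ _ _
    have hw2 : w₁ ≫ pullback.snd (cR gX gY Z) O.ι = V.r ≫ g₁ := pullback.lift_snd _ _ _
    refine ⟨w₁, ?_, ?_, ?_⟩
    · have h1 : IsPullback (w₁ ≫ pullback.fst (cR gX gY Z) O.ι) V.r (cR gX gY Z) (g₁ ≫ O.ι) := by
        rw [hw1, hg₁]; exact hw
      exact IsPullback.of_right h1 hw2 hO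
    · show w₁ ≫ pullback.fst (cR gX gY Z) O.ι ≫ cP gX gY Z = V.p
      rw [← Category.assoc, hw1]; exact hwp
    · show w₁ ≫ pullback.fst (cR gX gY Z) O.ι ≫ cQ gX gY Z = V.q
      rw [← Category.assoc, hw1]; exact hwq
  · intro T _ t V g g' hg hg' h h'
    let T' : Over S := Over.mk t
    let V' : Fam gX gY T'.hom := V
    have hT' : IsLocallyNoetherian T'.left := ‹IsLocallyNoetherian T›
    obtain ⟨g₀, -, huniq⟩ := hH.2 T' ⟨(emb gX gY V').ker, mem_hilb V'⟩
    have key : ∀ a : T ⟶ O.toScheme, (ha : a ≫ O.ι ≫ H.hom = t) → Cls gX gY U V a →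
        a ≫ O.ι = g₀.left := by
      rintro a ha ⟨w, hw, hwp, hwq⟩
      let a' : T' ⟶ H := Over.homMk (a ≫ O.ι) (by rw [Category.assoc]; exact ha)
      have h1 : FGA.hilbPull (pullback.fst gX gY ≫ gX) a' Z.1 = (emb gX gY V').ker := by
        refine (eq_ker_iff gX gY Z V' a').2 ⟨w ≫ pullback.fst (cR gX gY Z) O.ι, ?_, ?_, ?_⟩
        · exact hw.paste_horiz hO
        · rw [Category.assoc]; exact hwp
        · rw [Category.assoc]; exact hwq
      rw [← huniq a' h1]
      rfl
    rw [← cancel_mono O.ι, key g hg h, key g' hg' h']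

theorem locallyOfFiniteType_of_coprod {ι : Type u} (P : ι → Scheme.{u}) {H : Scheme.{u}}
    (e : (∐ P) ≅ H) (h : H ⟶ S)
    (hP : ∀ a, LocallyOfFiniteType (Limits.Sigma.ι P a ≫ e.hom ≫ h)) : LocallyOfFiniteType h := by
  have h1 : LocallyOfFiniteType (e.hom ≫ h) := by
    rw [IsZariskiLocalAtSource.iff_of_openCover (P := @LocallyOfFiniteType) (sigmaOpenCover P)]
    exact hP
  have : h = e.inv ≫ e.hom ≫ h := by rw [Iso.inv_hom_id_assoc]
  rw [this]
  infer_instance

theorem exists_rep [IsNoetherian S] (hX : RelProj.IsHProjective gX) (hY : RelProj.IsHProjective gY)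
    [IsProper gX] [Flat gX] [IsProper gY] :
    ∃ (I : Scheme.{u}) (fI : I ⟶ S) (U : Fam gX gY fI), LocallyOfFiniteType fI ∧
      Rep gX gY fI U := by
  have h1 : RelProj.IsHProjective (pullback.fst gX gY) :=
    K386.HQP.isHProjective_of_isPullback
      (IsPullback.of_hasPullback gX gY).flip hY
  have h2 : RelProj.IsHProjective (pullback.fst gX gY ≫ gX) := Groth.Agent.S9692.result _ _ h1 hX
  obtain ⟨n, i, hi, hf⟩ := h2
  have key : ∀ f : pullback gX gY ⟶ S, i ≫ CohB1.ProjSpaceOver.toBase n S = f →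
      ∃ (H : Over S) (Z : FGA.HilbSet f H), FGA.HilbRepresentedBy f H Z ∧
        LocallyOfFiniteType H.hom := by
    rintro _ rfl
    obtain ⟨H, Z, hH, ι, P, e, r, c, hc⟩ := Groth.Agent.S3218.result S n _ i
    refine ⟨H, Z, hH, locallyOfFiniteType_of_coprod P e H.hom fun a => ?_⟩
    obtain ⟨h3, h4⟩ := hc a
    rw [← h4]
    infer_instance
  obtain ⟨H, Z, hH, hft⟩ := key _ hf
  exact exists_rep_of_hilb gX gY H Z hH

end K50.IsoRep
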