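import Groth.Agent.Hensel.FactorLift
import Groth.Agent.Hensel.FiniteEtaleLift
import Mathlib.LinearAlgebra.Matrix.Charpoly.Coeff
import Mathlib.RingTheory.Henselian

/-!
# Lifting idempotent matrices over a henselian local ring by a polynomial
-/

set_option autoImplicit false
universe u v

namespace K50.LiftIdem

open Polynomial Matrix IsLocalRing

section Field

variable {κ : Type*} [Field κ] {N : Type*} [Fintype N] [DecidableEq N]

theorem aeval_idem {E : Matrix N N κ} (h : IsIdempotentElem E) (r : κ[X]) :
    aeval E r = r.eval 1 • E + r.eval 0 • (1 - E) := by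
  induction r using Polynomial.induction_on' with
  | add p q hp hq => rw [map_add, hp, hq, eval_add, eval_add, add_smul, add_smul]; abel
  | monomial n a =>
    rw [aeval_monomial]
    rcases n with _ | n
    · simp [Algebra.algebraMap_eq_smul_one, ← smul_add]
    · rw [h.pow_succ_eq]
      simp [Algebra.algebraMap_eq_smul_one]

theorem poly_eval {E : Matrix N N κ} (h : IsIdempotentElem E) {a : ℕ} {g q w : κ[X]}
    (hp : E.charpoly = X ^ a * g) (ha : a = 0 → g.eval 0 ≠ 0)
    (hq : q = X ^ a * w) (v : κ[X]) (h1 : q + v * g = 1) : aeval E q = E := by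
  have hc : E.charpoly.eval 1 • E + E.charpoly.eval 0 • (1 - E) = 0 := by
    rw [← aeval_idem h, aeval_self_charpoly]
  have hE : E * E = E := h
  have hE' : (1 - E) * E = 0 := by rw [sub_mul, one_mul, hE, sub_self]
  have hE'' : (1 - E) * (1 - E) = 1 - E := by rw [mul_sub, mul_one, hE', sub_zero]
  have hE3 : E * (1 - E) = 0 := by rw [mul_sub, mul_one, hE, sub_self]
  have c1 : E.charpoly.eval 1 • E = 0 := by
    have := congrArg (· * E) hc
    simpa [add_mul, hE, hE'] using this
  have c0 : E.charpoly.eval 0 • (1 - E) = 0 := by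
    have := congrArg (· * (1 - E)) hc
    simpa only [add_mul, smul_mul_assoc, hE3, hE'', smul_zero, zero_add, zero_mul] using this
  have e1 : E.charpoly.eval 1 = g.eval 1 := by rw [hp]; simp
  rw [aeval_idem h]
  have k1 : q.eval 1 • E = E := by
    have hh := congrArg (Polynomial.eval 1) h1
    rw [eval_add, eval_mul, eval_one] at hh
    have : q.eval 1 = 1 - v.eval 1 * g.eval 1 := eq_sub_of_add_eq hh
    rw [this, sub_smul, one_smul, mul_smul, ← e1, c1, smul_zero, sub_zero]
  have k0 : q.eval 0 • (1 - E) = 0 := by
    rcases Nat.eq_zero_or_pos a with h0 | h0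
    · have : E.charpoly.eval 0 ≠ 0 := by rw [hp, h0]; simpa using ha h0
      have h2 : (1 - E) = 0 := (smul_eq_zero.mp c0).resolve_left this
      rw [h2, smul_zero]
    · rw [hq, eval_mul, eval_pow, eval_X, zero_pow h0.ne', zero_mul, zero_smul]
  rw [k1, k0, add_zero]

end Field

theorem exists_poly {R : Type u} [CommRing R] [HenselianLocalRing R] {N : Type v} [Fintype N]
    [DecidableEq N] (Y : Matrix N N R) (h : IsIdempotentElem (Y.map (residue R))) :
    ∃ q : R[X], IsIdempotentElem (aeval Y q) ∧
      (aeval Y q).map (residue R) = Y.map (residue R) := by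
  classical
  set E : Matrix N N (ResidueField R) := Y.map (residue R) with hE
  set p := Y.charpoly with hp
  have hpm : p.Monic := Y.charpoly_monic
  have hpE : p.map (residue R) = E.charpoly := by
    rw [hp, hE, ← Matrix.charpoly_map]
  have hne : p.map (residue R) ≠ 0 := (hpm.map _).ne_zero
  obtain ⟨h₀, hh, hnd⟩ := Polynomial.exists_eq_pow_rootMultiplicity_mul_and_not_dvd _ hne 0
  set a := rootMultiplicity 0 (p.map (residue R)) with ha
  have hcop : IsCoprime ((X - C (0 : ResidueField R)) ^ a) h₀ :=
    IsCoprime.pow_left (((Polynomial.irreducible_X_sub_C (0 : ResidueField R)).coprime_iff_not_dvd).mpr hnd)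
  obtain ⟨g, k, hgk, hgm, hg, hk⟩ := Groth.Agent.Hensel.FactorLift.exists_factor_lift p
    ((X - C (0 : ResidueField R)) ^ a) h₀ ((monic_X_sub_C _).pow _) hcop hh
  have hcop' : IsCoprime g k :=
    Groth.Agent.Hensel.FiniteEtaleLift.isCoprime_of_isCoprime_residue g k hgm (by rw [hg, hk]; exact hcop)
  obtain ⟨u, v, huv⟩ := hcop'
  have hev : aeval Y p = 0 := Matrix.aeval_self_charpoly Y
  refine ⟨u * g, ?_, ?_⟩
  · have h1 : (u * g) * (u * g) = u * g - (u * v) * p := by
      have : u * g = 1 - v * k := by rw [← huv]; ring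
      calc (u * g) * (u * g) = (u * g) * (1 - v * k) := by rw [← this]
        _ = u * g - (u * v) * (g * k) := by ring
        _ = u * g - (u * v) * p := by rw [hgk]
    show aeval Y (u * g) * aeval Y (u * g) = aeval Y (u * g)
    rw [← map_mul, h1, map_sub, map_mul _ (u * v), hev, mul_zero, sub_zero]
  · have h2 : (aeval Y (u * g)).map (residue R) = aeval E ((u * g).map (residue R)) := by
      have h3 := Polynomial.hom_eval₂ (u * g) (algebraMap R (Matrix N N R)) ((residue R).mapMatrix) Y
      rw [← Polynomial.aeval_def] at h3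
      refine h3.trans ?_
      rw [Polynomial.aeval_def, Polynomial.eval₂_map]
      congr 1
      ext r i j
      simp [Matrix.algebraMap_matrix_apply, apply_ite (residue R)]
    rw [h2]
    have hC : (X - C (0 : ResidueField R)) = X := by simp
    refine poly_eval (a := a) (g := h₀) (w := u.map (residue R)) h ?_ ?_ ?_ (v.map (residue R)) ?_
    · rw [← hpE, hh, hC]
    · intro h0 h1
      rw [hC] at hnd
      exact hnd (X_dvd_iff.mpr (by rwa [coeff_zero_eq_eval_zero]))
    · rw [Polynomial.map_mul, hg, hC, mul_comm]
    · rw [← hk, ← Polynomial.map_mul, ← Polynomial.map_add, huv, Polynomial.map_one]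

end K50.LiftIdem
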